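import Groth.Agent.AtlasCohLib.Atlas
import Groth.Agent.RelProjLib.Coords
import Groth.Agent.AmpleLib.HProjBasic

/-!
# Chow's lemma in atlas form
-/

set_option autoImplicit false
universe u

open CategoryTheory CategoryTheory.Limits AlgebraicGeometry TopologicalSpace Opposite
open ChowLib

noncomputable section

namespace AtlasCoh

variable {X Y : Scheme.{u}} {n : ℕ}

/-- the coordinates of a morphism to projective space -/
def coordsOf (q : X ⟶ PZ.{u} n) : Coords n X where
  U a := q ⁻¹ᵁ Dplus a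
  coord a j := RelProjLib.coord q a j le_rfl
  coord_self a := RelProjLib.coord_self q a le_rfl
  cocycle i j k W hi hj := by
    change X.presheaf.map (homOfLE hi).op _ = X.presheaf.map (homOfLE hj).op _ * X.presheaf.map (homOfLE hi).op _
    rw [RelProjLib.coord_res, RelProjLib.coord_res, RelProjLib.coord_res]
    exact RelProjLib.coord_change q i j k hi hj
  basicOpen_coord i j := RelProjLib.basicOpen_coord q i j le_rfl

lemma basicOpen_isAffine (q : X ⟶ PZ.{u} n) {a : Fin (n + 1)} {V : X.Opens} (hV : IsAffineOpen V)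
    (hle : V ≤ q ⁻¹ᵁ Dplus a) (b : Fin (n + 1)) : IsAffineOpen (V ⊓ q ⁻¹ᵁ Dplus b) := by
  rw [← RelProjLib.basicOpen_coord q a b hle]
  exact hV.basicOpen _

/-- the atlas of a closed subscheme of projective space over an affine open of the base -/
def atlasOf (q : X ⟶ PZ.{u} n) (π : X ⟶ Y) (e : X ⟶ CohB1.ProjSpaceOver n Y) [IsClosedImmersion e]
    (he : e ≫ CohB1.ProjSpaceOver.toBase n Y = π) (heq : e ≫ toPZ n Y = q) {W : Y.Opens}
    (hW : IsAffineOpen W) {R : Type u} [CommRing R] (ρ : R →+* Γ(Y, W)) (hρ : Function.Surjective ρ) :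
    Atlas (coordsOf q) (π ⁻¹ᵁ W) R where
  le_iSup x _ := by
    change x ∈ ⨆ i, q ⁻¹ᵁ Dplus i
    rw [← Scheme.Hom.preimage_iSup, iSup_Dplus]
    trivial
  cst := (π.app W).hom.comp ρ
  affine s hs := by
    classical
    induction hs using Finset.Nonempty.cons_induction with
    | singleton a =>
      rw [Finset.inf_singleton, inf_comm]
      exact RelProjLib.isAffineOpen_piece π q e he heq a hW
    | cons a t ha ht ih =>
      obtain ⟨b, hb⟩ := ht
      rw [Finset.inf_cons, ← inf_assoc, inf_right_comm]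
      exact basicOpen_isAffine q ih (a := b) (inf_le_right.trans (Finset.inf_le hb)) a
  surj a := by
    intro y
    have hE : π ⁻¹ᵁ W ⊓ (coordsOf q).U a = RelProjLib.piece π q a W := inf_comm _ _
    obtain ⟨P, hP⟩ := RelProjLib.evalA_surjective π q e he heq a hW (resO hE.ge y)
    obtain ⟨P', hP'⟩ := MvPolynomial.map_surjective ρ hρ P
    refine ⟨P', ?_⟩
    have key : (resO hE.le).comp ((RelProjLib.evalA π q a W).comp (MvPolynomial.map ρ)) =
        MvPolynomial.eval₂Hom ((resO (inf_le_left : π ⁻¹ᵁ W ⊓ (coordsOf q).U a ≤ π ⁻¹ᵁ W)).comp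
          ((π.app W).hom.comp ρ))
          fun j => resO (inf_le_right : π ⁻¹ᵁ W ⊓ (coordsOf q).U a ≤ (coordsOf q).U a)
            ((coordsOf q).coord a j) := by
      refine MvPolynomial.ringHom_ext (fun r => ?_) (fun j => ?_)
      · simp only [RingHom.comp_apply, MvPolynomial.map_C, RelProjLib.evalA, MvPolynomial.eval₂Hom_C]
        exact resO_resO (inf_le_right : RelProjLib.piece π q a W ≤ π ⁻¹ᵁ W) hE.le (π.app W (ρ r))
      · simp only [RingHom.comp_apply, MvPolynomial.map_X, RelProjLib.evalA, MvPolynomial.eval₂Hom_X']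
        exact (RelProjLib.coord_res q a j _ hE.le).trans (RelProjLib.coord_res q a j le_rfl _).symm
    refine (RingHom.congr_fun key P').symm.trans ?_
    rw [RingHom.comp_apply, RingHom.comp_apply, hP', hP, resO_resO, resO_self]

/-- Chow's lemma in atlas form -/
theorem exists_chow_atlas (A : Type u) [CommRing A] [IsNoetherianRing A] {X : Scheme.{u}}
    (f : X ⟶ Spec (.of A)) [IsProper f] :
    ∃ (n : ℕ) (X' : Scheme.{u}) (π : X' ⟶ X) (C : Coords n X') (V : X.Opens),
      Dense (V : Set X) ∧ IsIso (π ∣_ V) ∧ IsProper π ∧ Surjective π ∧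
      (∃ a : Atlas C ⊤ A, a.cst = Coh.toGlobal (π ≫ f)) ∧
      (∀ W : X.Opens, IsAffineOpen W → ∃ a : Atlas C (π ⁻¹ᵁ W) Γ(X, W), a.cst = (π.app W).hom) := by
  have : IsNoetherian (Spec (CommRingCat.of A)) := inferInstance
  obtain ⟨h1, h2, h3⟩ := AmpleLib.chow_hyp f (Or.inl inferInstance)
  obtain ⟨n, X', π, j, hj, hjr, hp, hs, -, ⟨V, hV, -, hiso⟩, -, -⟩ := AmpleLib.chow_ega f h3
  have : IsImmersion j := hj
  have : IsProper π := hp
  let q := j ≫ toPZ n (Spec (CommRingCat.of A))
  have : IsProper (π ≫ f) := inferInstance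
  have hpj : IsProper (j ≫ CohB1.ProjSpaceOver.toBase n (Spec (CommRingCat.of A))) := by
    rw [hjr]; infer_instance
  have : IsProper j := IsProper.of_comp j (CohB1.ProjSpaceOver.toBase n (Spec (CommRingCat.of A)))
  have hjc : IsClosedImmersion j :=
    IsClosedImmersion.of_isPreimmersion j j.isClosedMap.isClosed_range
  let g : X' ⟶ CohB1.ProjSpaceOver n X := poLift q π
  have hgj : g ≫ AmpleLib.poMap n f = j := by
    apply po_ext
    · rw [Category.assoc, AmpleLib.poMap_toPZ, poLift_toPZ]
    · rw [Category.assoc, AmpleLib.poMap_toBase, ← Category.assoc, poLift_toBase, hjr]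
  have : IsSeparated (AmpleLib.poMap n f) :=
    MorphismProperty.of_isPullback (AmpleLib.isPullback_poMap n f).flip inferInstance
  have hgc : IsClosedImmersion (g ≫ AmpleLib.poMap n f) := by rw [hgj]; exact hjc
  have : IsClosedImmersion g := IsClosedImmersion.of_comp g (AmpleLib.poMap n f)
  refine ⟨n, X', π, coordsOf q, V, hV, hiso, hp, hs,
    ⟨atlasOf q (π ≫ f) j hjr rfl (isAffineOpen_top _) (Scheme.ΓSpecIso (CommRingCat.of A)).inv.hom
      (ConcreteCategory.bijective_of_isIso (Scheme.ΓSpecIso (CommRingCat.of A)).inv).2, rfl⟩,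
    fun W hW => ⟨atlasOf q π g (poLift_toBase _ _) (poLift_toPZ _ _) hW (RingHom.id _)
      Function.surjective_id, RingHom.comp_id _⟩⟩

end AtlasCoh

end
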