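import Groth.Agent.AtlasCohLib.PushTwist
import Groth.Agent.AtlasCohLib.ChowData
import Groth.Agent.DevissLib.Induction

/-!
# Finiteness of the cohomology of coherent modules on a proper scheme over a Noetherian ring
-/

universe u

open CategoryTheory CategoryTheory.Limits AlgebraicGeometry Opposite TopologicalSpace

namespace AtlasCoh

variable {A : Type u} [CommRing A] [IsNoetherianRing A] {X : Scheme.{u}}

/-- On an integral scheme proper over `A` there is a generically free coherent module with finite cohomology. -/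
lemma exists_generic_finiteCoh {Z : Scheme.{u}} [IsIntegral Z] (g : Z ⟶ Spec (CommRingCat.of A)) [IsProper g] :
    ∃ (G : Z.Modules) (V : Z.Opens), Coh.IsCoh G ∧ FiniteCoh g G ∧ (V : Set Z).Nonempty ∧
      ∀ W : Z.Opens, W ≤ V → ∃ s : Γ(G, W), Function.Bijective fun r : Γ(Z, W) => r • s := by
  have : IsLocallyNoetherian Z := LocallyOfFiniteType.isLocallyNoetherian g
  have : CompactSpace Z := QuasiCompact.compactSpace_of_compactSpace g
  have : Z.IsSeparated := ⟨by
    rw [← terminal.comp_from g]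
    infer_instance⟩
  obtain ⟨n, X', π, C, V, hV, hπV, hπ, -, ⟨a, ha⟩, hW⟩ := exists_chow_atlas A g
  have hC : ⨆ i, C.U i = ⊤ := top_le_iff.1 a.le_iSup
  obtain ⟨d, hd⟩ := exists_finiteCoh_push_tw a ha hW (Coh.structureModule X') (DevissLib.isCoh_structureModule X')
  obtain ⟨hG, hGf⟩ := hd d le_rfl
  obtain ⟨z, hz⟩ := hV.nonempty
  obtain ⟨y, hy⟩ := (π ∣_ V).surjective ⟨z, hz⟩
  obtain ⟨k, hk⟩ := Opens.mem_iSup.1 (hC.ge (Opens.mem_top (y.1 : X')))
  let O : (π ⁻¹ᵁ V).toScheme.Opens := (π ⁻¹ᵁ V).ι ⁻¹ᵁ C.U k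
  let V₁ : Z.Opens := V.ι ''ᵁ ((π ∣_ V) ''ᵁ O)
  refine ⟨_, V₁, hG, hGf, ⟨z, ⟨⟨z, hz⟩, ⟨y, hk, hy⟩, rfl⟩⟩, fun W hWV => exists_gen_push_tw d k ?_ ?_⟩
  · intro x hx
    obtain ⟨v, ⟨o, ho, hov⟩, hvx⟩ := hWV (show π x ∈ W from hx)
    have hxV : π x ∈ V := hvx ▸ v.2
    have h : (⟨π x, hxV⟩ : V) = v := Subtype.ext hvx.symm
    have h' : o = (⟨x, hxV⟩ : π ⁻¹ᵁ V) := (π ∣_ V).injective (hov.trans (h.symm.trans (Subtype.ext (morphismRestrict_base_coe π V (⟨x, hxV⟩ : π ⁻¹ᵁ V)).symm)))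
    rw [h'] at ho
    exact ho
  · have hWle : W ≤ V := fun x hx => by
      obtain ⟨v, -, hvx⟩ := hWV hx
      exact hvx ▸ v.2
    obtain ⟨W', rfl⟩ : ∃ W' : (↑V : Scheme.{u}).Opens, V.ι ''ᵁ W' = W :=
      ⟨V.ι ⁻¹ᵁ W, by rw [V.ι.image_preimage_eq_opensRange_inf, V.opensRange_ι, inf_eq_right.mpr hWle]⟩
    have h : IsIso ((π ∣_ V).app W') := inferInstance
    rw [morphismRestrict_app] at h
    have : IsIso (π.app (V.ι ''ᵁ W')) := @IsIso.of_isIso_comp_right _ _ _ _ _ _ _ (X'.presheaf.mapIso (eqToIso (image_morphismRestrict_preimage π V W')).op).isIso_hom h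
    exact ConcreteCategory.bijective_of_isIso (π.app (V.ι ''ᵁ W'))

/-- **Finiteness.** Coherent modules on a scheme proper over a Noetherian ring have finite cohomology. -/
theorem finiteCoh_of_isProper (f : X ⟶ Spec (CommRingCat.of A)) [IsProper f] (M : X.Modules) (hM : Coh.IsCoh M) :
    FiniteCoh f M := by
  have : IsLocallyNoetherian X := LocallyOfFiniteType.isLocallyNoetherian f
  have : CompactSpace X := QuasiCompact.compactSpace_of_compactSpace f
  have : IsNoetherian X := {}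
  have : X.IsSeparated := ⟨by
    rw [← terminal.comp_from f]
    infer_instance⟩
  rcases isEmpty_or_nonempty X with hX | hX
  · intro p
    have hZ : IsZero M := DevissLib.isZero_of_support_empty (Set.eq_empty_of_isEmpty _)
    have h0 : IsZero (Coh.toAb M) := (QCohLib.toAbF X).map_isZero hZ
    have : Subsingleton (Coh.HH X M p) := subsingleton_of_forall_eq 0 fun x => by
      have := Sheaf.H.map_id_apply x
      rw [h0.eq_of_src (𝟙 _) 0] at this
      exact this.symm.trans ((congrArg (fun e => Abelian.Ext.comp x e (add_zero p)) (Abelian.Ext.mk₀_zero _ _)).trans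
        (Abelian.Ext.comp_zero ..))
    infer_instance
  refine DevissLib.devissage (fun N => FiniteCoh f N) (fun M N ⟨e⟩ h => h.of_iso e) Set.univ
    (fun S hS _ _ _ _ => ⟨fun h₁ h₂ => FiniteCoh.right hS h₁ h₂, fun h₁ h₃ => FiniteCoh.mid hS h₁ h₃,
      fun h₂ h₃ => FiniteCoh.left hS h₂ h₃⟩) Set.univ_nonempty (fun η _ _ => ?_) isClosed_univ M hM (Set.subset_univ _)
  obtain ⟨Z, i, hi, hZ, hr⟩ := DevissLib.exists_integral_closed (isClosed_closure (s := {η}))
    isIrreducible_singleton.closure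
  obtain ⟨G₀, V, hG₀, hf, hV, hgen⟩ := exists_generic_finiteCoh (i ≫ f)
  obtain ⟨hG, hsupp, he⟩ := DevissLib.push_generic i G₀ hG₀ V hV hgen
  have hη : i (genericPoint Z) = η := by
    have h1 : IsGenericPoint (i (genericPoint Z)) (closure (i '' ⊤)) :=
      (genericPoint_spec Z).image i.continuous
    rw [Set.top_eq_univ, Set.image_univ, hr, closure_closure] at h1
    exact h1.eq (isGenericPoint_closure)
  subst hη
  have : Coh.IsQCoh G₀ := hG₀.1
  exact ⟨_, hG, hsupp.trans hr, he, FiniteCoh.push_affine G₀ hf⟩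

end AtlasCoh
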