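import Groth.Agent.AtlasCohLib.Atlas
import Groth.Agent.QCohLib.AffineFinite

/-!
# Twists of a module by powers of the coordinates

Sections of `tw C d M` over `V` are families `a i` on `U i ⊓ V` with `a i = (x j / x i) ^ d • a j` on overlaps.
-/

universe u

open CategoryTheory AlgebraicGeometry Opposite TopologicalSpace

namespace AtlasCoh

variable {Y : Scheme.{u}} (M : Y.Modules)

/-- Restriction of sections. -/
noncomputable def rsM {V W : Y.Opens} (h : W ≤ V) : Γ(M, V) →+ Γ(M, W) := (M.presheaf.map (homOfLE h).op).hom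

lemma rsM_rsM {V W Z : Y.Opens} (h : W ≤ V) (h' : Z ≤ W) (x : Γ(M, V)) : rsM M h' (rsM M h x) = rsM M (h'.trans h) x := by
  show (M.presheaf.map (homOfLE h).op ≫ M.presheaf.map (homOfLE h').op).hom x = _
  rw [← Functor.map_comp]
  rfl

lemma rsM_self {V : Y.Opens} (h : V ≤ V) (x : Γ(M, V)) : rsM M h x = x := by
  show (M.presheaf.map (𝟙 (op V))).hom x = x
  simp

lemma rsM_smul {V W : Y.Opens} (h : W ≤ V) (f : Γ(Y, V)) (x : Γ(M, V)) : rsM M h (f • x) = resO h f • rsM M h x :=
  M.map_smul (homOfLE h) f x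

variable {n : ℕ} (C : Coords n Y) (d : ℤ)

/-- Compatible families over an open. -/
def TwCompat (V : Y.Opens) (a : ∀ i, Γ(M, C.U i ⊓ V)) : Prop :=
  ∀ (i j : Fin (n + 1)) (W : Y.Opens) (hi : W ≤ C.U i ⊓ V) (hj : W ≤ C.U j ⊓ V),
    rsM M hi (a i) = C.u d i j (hi.trans inf_le_left) (hj.trans inf_le_left) • rsM M hj (a j)

/-- The sections of the twist over an open. -/
noncomputable def twAdd (V : Y.Opens) : AddSubgroup (∀ i, Γ(M, C.U i ⊓ V)) where
  carrier := {a | TwCompat M C d V a}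
  zero_mem' := fun i j W hi hj => by simp
  add_mem' := fun {a b} ha hb i j W hi hj => by
    simp only [Pi.add_apply, map_add, ha i j W hi hj, hb i j W hi hj, smul_add]
  neg_mem' := fun {a} ha i j W hi hj => by
    simp only [Pi.neg_apply, map_neg, ha i j W hi hj, smul_neg]

variable {M C d}

/-- A component of a twisted section. -/
noncomputable def twComp {V : Y.Opens} (i : Fin (n + 1)) : twAdd M C d V →+ Γ(M, C.U i ⊓ V) :=
  (Pi.evalAddMonoidHom (fun i => Γ(M, C.U i ⊓ V)) i).comp (twAdd M C d V).subtype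

lemma twAdd_ext {V : Y.Opens} {a b : twAdd M C d V} (h : ∀ i, twComp i a = twComp i b) : a = b :=
  Subtype.ext (funext h)

noncomputable instance twModule (V : Y.Opens) : Module Γ(Y, V) (twAdd M C d V) where
  smul r a := ⟨fun i => resO (inf_le_right : C.U i ⊓ V ≤ V) r • twComp i a, fun i j W hi hj => by
    show rsM M hi (resO (inf_le_right : C.U i ⊓ V ≤ V) r • twComp i a) = C.u d i j _ _ • rsM M hj (resO (inf_le_right : C.U j ⊓ V ≤ V) r • twComp j a)
    rw [rsM_smul, rsM_smul, resO_resO, resO_resO, smul_comm (C.u d i j _ _)]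
    exact congrArg _ (a.2 i j W hi hj)⟩
  one_smul a := twAdd_ext fun i => by
    show resO (inf_le_right : C.U i ⊓ V ≤ V) (1 : Γ(Y, V)) • twComp i a = _
    rw [map_one, one_smul]
  mul_smul r s a := twAdd_ext fun i => by
    show resO (inf_le_right : C.U i ⊓ V ≤ V) (r * s) • twComp i a =
      resO (inf_le_right : C.U i ⊓ V ≤ V) r • resO (inf_le_right : C.U i ⊓ V ≤ V) s • twComp i a
    exact (congrArg (· • twComp i a) (map_mul _ r s)).trans (mul_smul (resO (inf_le_right : C.U i ⊓ V ≤ V) r) _ _)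
  smul_zero r := twAdd_ext fun i => smul_zero _
  smul_add r a b := twAdd_ext fun i => smul_add _ _ _
  add_smul r s a := twAdd_ext fun i => by
    show resO (inf_le_right : C.U i ⊓ V ≤ V) (r + s) • twComp i a = resO (inf_le_right : C.U i ⊓ V ≤ V) r • twComp i a + resO (inf_le_right : C.U i ⊓ V ≤ V) s • twComp i a
    rw [map_add, add_smul]
  zero_smul a := twAdd_ext fun i => by
    show resO (inf_le_right : C.U i ⊓ V ≤ V) (0 : Γ(Y, V)) • twComp i a = _
    rw [map_zero, zero_smul]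
    rfl

lemma twComp_smul {V : Y.Opens} (r : Γ(Y, V)) (a : twAdd M C d V) (i : Fin (n + 1)) :
    twComp i (r • a) = resO (inf_le_right : C.U i ⊓ V ≤ V) r • twComp i a := rfl

/-- Restriction of twisted sections. -/
noncomputable def twRes {V V' : Y.Opens} (h : V' ≤ V) : twAdd M C d V →+ twAdd M C d V' where
  toFun a := ⟨fun i => rsM M (inf_le_inf_left _ h) (twComp i a), fun i j W hi hj => by
    show rsM M hi (rsM M _ (twComp i a)) = C.u d i j _ _ • rsM M hj (rsM M _ (twComp j a))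
    rw [rsM_rsM, rsM_rsM]
    exact a.2 i j W _ _⟩
  map_zero' := twAdd_ext fun i => map_zero (rsM M _)
  map_add' a b := twAdd_ext fun i => map_add (rsM M _) _ _

lemma twComp_twRes {V V' : Y.Opens} (h : V' ≤ V) (a : twAdd M C d V) (i : Fin (n + 1)) :
    twComp i (twRes h a) = rsM M (inf_le_inf_left _ h) (twComp i a) := rfl

variable (M C d)

/-- The presheaf of twisted sections. -/
noncomputable def twPre : (Opens Y)ᵒᵖ ⥤ AddCommGrpCat.{u} where
  obj V := AddCommGrpCat.of (twAdd M C d V.unop)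
  map i := AddCommGrpCat.ofHom (twRes (leOfHom i.unop))
  map_id V := ConcreteCategory.hom_ext _ _ fun a => twAdd_ext fun i => rsM_self M _ _
  map_comp i j := ConcreteCategory.hom_ext _ _ fun a => twAdd_ext fun k => (rsM_rsM M _ _ _).symm

/-- As a presheaf of modules. -/
noncomputable def twPMod : Y.PresheafOfModules :=
  letI : ∀ V : (Opens Y)ᵒᵖ, Module (Y.ringCatSheaf.obj.obj V) ((twPre M C d).obj V) := fun V =>
    inferInstanceAs (Module Γ(Y, V.unop) (twAdd M C d V.unop))
  PresheafOfModules.ofPresheaf (twPre M C d) fun V W i (r : Γ(Y, V.unop)) (a : twAdd M C d V.unop) => by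
    show twRes (leOfHom i.unop) (r • a) = resO (leOfHom i.unop) r • twRes (leOfHom i.unop) a
    refine twAdd_ext fun k => ?_
    rw [twComp_twRes, twComp_smul, twComp_smul, twComp_twRes, rsM_smul, resO_resO, resO_resO]

theorem twPre_isSheaf : TopCat.Presheaf.IsSheaf (X := Y.toTopCat) (twPre M C d) := by
  rw [TopCat.Presheaf.isSheaf_iff_isSheafUniqueGluing]
  intro ι U sf hsf
  let F : TopCat.Sheaf AddCommGrpCat Y.toTopCat := Coh.toAb M
  have hcov : ∀ k, C.U k ⊓ iSup U ≤ ⨆ i, C.U k ⊓ U i := fun k => (inf_iSup_eq _ _).le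
  have hg : ∀ k, ∃! g : Γ(M, C.U k ⊓ iSup U), ∀ i,
      rsM M (inf_le_inf_left _ (le_iSup U i)) g = twComp k (sf i : twAdd M C d (U i)) := fun k => by
    refine TopCat.Sheaf.existsUnique_gluing' F (fun i => C.U k ⊓ U i) (C.U k ⊓ iSup U)
      (fun i => homOfLE (inf_le_inf_left _ (le_iSup U i))) (hcov k) (fun i => twComp k (sf i : twAdd M C d (U i))) fun i j => ?_
    have h := congrArg (twComp k) (hsf i j)
    have hle : (C.U k ⊓ U i) ⊓ (C.U k ⊓ U j) ≤ C.U k ⊓ (U i ⊓ U j) :=
      le_inf (inf_le_left.trans inf_le_left) (inf_le_inf inf_le_right inf_le_right)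
    have h' := congrArg (rsM M hle) h
    exact ((rsM_rsM M _ hle _).symm.trans h').trans (rsM_rsM M _ hle _)
  choose g hg huniq using hg
  have hcompat : TwCompat M C d (iSup U) g := fun k l W hk hl => by
    refine TopCat.Sheaf.eq_of_locally_eq' F (fun i => W ⊓ U i) W (fun i => homOfLE inf_le_left)
      (fun p hp => by
        obtain ⟨i, hi⟩ := Opens.mem_iSup.1 ((hk.trans inf_le_right) hp)
        exact Opens.mem_iSup.2 ⟨i, hp, hi⟩) _ _ fun i => ?_
    show rsM M (inf_le_left : W ⊓ U i ≤ W) (rsM M hk (g k)) = rsM M (inf_le_left : W ⊓ U i ≤ W) (C.u d k l _ _ • rsM M hl (g l))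
    have hki : W ⊓ U i ≤ C.U k ⊓ U i := inf_le_inf_right _ (hk.trans inf_le_left)
    have hli : W ⊓ U i ≤ C.U l ⊓ U i := inf_le_inf_right _ (hl.trans inf_le_left)
    have e := (sf i : twAdd M C d (U i)).2 k l (W ⊓ U i) hki hli
    have e' : rsM M hki (twComp k (sf i : twAdd M C d (U i))) =
        C.u d k l (hki.trans inf_le_left) (hli.trans inf_le_left) • rsM M hli (twComp l (sf i : twAdd M C d (U i))) := e
    rw [← hg k i, ← hg l i, rsM_rsM, rsM_rsM] at e'
    rw [rsM_smul, rsM_rsM, rsM_rsM, C.u_res]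
    exact e' 
  refine ⟨⟨g, hcompat⟩, fun i => twAdd_ext fun k => hg k i, fun y hy => twAdd_ext fun k => ?_⟩
  exact huniq k (twComp k (y : twAdd M C d (iSup U))) fun i => congrArg (twComp k) (hy i)

/-- The twist. -/
noncomputable def tw : Y.Modules := ⟨twPMod M C d, twPre_isSheaf M C d⟩

/-- Twisted sections as families. -/
noncomputable def twSec (V : Y.Opens) : Γ(tw M C d, V) ≃+ twAdd M C d V := AddEquiv.refl _

lemma twSec_smul {V : Y.Opens} (r : Γ(Y, V)) (a : Γ(tw M C d, V)) : twSec M C d V (r • a) = r • twSec M C d V a := rfl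

lemma twSec_res {V V' : Y.Opens} (h : V' ≤ V) (a : Γ(tw M C d, V)) :
    twSec M C d V' (rsM (tw M C d) h a) = twRes h (twSec M C d V a) := rfl

/-- On a chart the twist is the module. -/
noncomputable def twEval (k : Fin (n + 1)) {V : Y.Opens} (hV : V ≤ C.U k) : Γ(tw M C d, V) →+ Γ(M, V) :=
  (rsM M (le_inf hV le_rfl)).comp ((twComp k).comp (twSec M C d V).toAddMonoidHom)

lemma twEval_smul (k : Fin (n + 1)) {V : Y.Opens} (hV : V ≤ C.U k) (r : Γ(Y, V)) (a : Γ(tw M C d, V)) :
    twEval M C d k hV (r • a) = r • twEval M C d k hV a := by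
  show rsM M _ (twComp k (r • twSec M C d V a)) = r • rsM M _ (twComp k (twSec M C d V a))
  rw [twComp_smul, rsM_smul, resO_resO, resO_self]

lemma twEval_res (k : Fin (n + 1)) {V V' : Y.Opens} (h : V' ≤ V) (hV : V ≤ C.U k) (a : Γ(tw M C d, V)) :
    twEval M C d k (h.trans hV) (rsM (tw M C d) h a) = rsM M h (twEval M C d k hV a) := by
  show rsM M _ (rsM M _ (twComp k (twSec M C d V a))) = rsM M h (rsM M _ (twComp k (twSec M C d V a)))
  rw [rsM_rsM, rsM_rsM]

lemma twEval_bijective (k : Fin (n + 1)) {V : Y.Opens} (hV : V ≤ C.U k) : Function.Bijective (twEval M C d k hV) := by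
  refine ⟨(injective_iff_map_eq_zero _).2 fun a ha => ?_, fun t => ?_⟩
  · apply (twSec M C d V).injective
    rw [map_zero]
    refine twAdd_ext fun i => ?_
    have hik : C.U i ⊓ V ≤ C.U k ⊓ V := le_inf (inf_le_right.trans hV) inf_le_right
    have e := (twSec M C d V a).2 i k (C.U i ⊓ V) le_rfl hik
    rw [map_zero]
    refine ((rsM_self M le_rfl _).symm.trans e).trans ?_
    have h0 : rsM M hik (twComp k (twSec M C d V a)) = 0 := by
      rw [show rsM M hik (twComp k (twSec M C d V a)) = rsM M (inf_le_right : C.U i ⊓ V ≤ V) (twEval M C d k hV a) from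
        (rsM_rsM M _ _ _).symm, ha, map_zero]
    exact (congrArg _ h0).trans (smul_zero _)
  · refine ⟨(twSec M C d V).symm ⟨fun i => C.u d i k (inf_le_left : C.U i ⊓ V ≤ C.U i) ((inf_le_right : C.U i ⊓ V ≤ V).trans hV) •
        rsM M (inf_le_right : C.U i ⊓ V ≤ V) t,
      fun i j W hi hj => ?_⟩, ?_⟩
    · show rsM M hi (C.u d i k (inf_le_left : C.U i ⊓ V ≤ C.U i) ((inf_le_right : C.U i ⊓ V ≤ V).trans hV) •
        rsM M (inf_le_right : C.U i ⊓ V ≤ V) t) = C.u d i j _ _ • rsM M hj (C.u d j k (inf_le_left : C.U j ⊓ V ≤ C.U j)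
          ((inf_le_right : C.U j ⊓ V ≤ V).trans hV) • rsM M (inf_le_right : C.U j ⊓ V ≤ V) t)
      rw [rsM_smul, rsM_smul, rsM_rsM, rsM_rsM, C.u_res, C.u_res, smul_smul, C.u_mul]
    · show rsM M _ (C.u d k k (inf_le_left : C.U k ⊓ V ≤ C.U k) ((inf_le_right : C.U k ⊓ V ≤ V).trans hV) •
        rsM M (inf_le_right : C.U k ⊓ V ≤ V) t) = t
      rw [C.u_self, one_smul, rsM_rsM, rsM_self]

theorem isQCoh_tw [Coh.IsQCoh M] (hC : ⨆ i, C.U i = ⊤) : Coh.IsQCoh (tw M C d) := by
  choose k hk using fun p : Y => Opens.mem_iSup.1 (hC.ge (Opens.mem_top p))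
  choose W hW hpW hWk using fun p : Y => Opens.isBasis_iff_nbhd.mp Y.isBasis_affineOpens (hk p)
  refine QCohLib.isQCoh_of_localizingAt _ W hW (eq_top_iff.2 fun p _ => Opens.mem_iSup.2 ⟨p, hpW p⟩) fun p f => ?_
  have hL := QCohLib.localizingAt_of_isQCoh (hW p) M f
  have hle : Y.basicOpen f ≤ W p := Y.basicOpen_le f
  constructor
  · intro s
    obtain ⟨e, t, ht⟩ := hL.exists_extend (twEval M C d (k p) (hle.trans (hWk p)) s)
    obtain ⟨t', rfl⟩ := (twEval_bijective M C d (k p) (hWk p)).2 t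
    refine ⟨e, t', (twEval_bijective M C d (k p) (hle.trans (hWk p))).1 ?_⟩
    refine (twEval_res M C d (k p) hle (hWk p) t').trans (ht.trans ?_)
    exact (twEval_smul M C d _ _ _ _).symm
  · intro t ht
    obtain ⟨e, he⟩ := hL.eq_zero (twEval M C d (k p) (hWk p) t) (by
      refine (twEval_res M C d (k p) hle (hWk p) t).symm.trans ?_
      rw [show rsM (tw M C d) hle t = 0 from ht, map_zero])
    refine ⟨e, (twEval_bijective M C d (k p) (hWk p)).1 ?_⟩
    rw [map_zero, twEval_smul]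
    exact he

theorem isFT_tw [Coh.IsQCoh M] (hC : ⨆ i, C.U i = ⊤) (hM : CohB1.IsFT M) : CohB1.IsFT (tw M C d) := by
  haveI := isQCoh_tw M C d hC
  refine QCohLib.isFT_of_finite fun p => ?_
  obtain ⟨k, hk⟩ := Opens.mem_iSup.1 (hC.ge (Opens.mem_top p))
  obtain ⟨W, hW, hpW, hWk⟩ := Opens.isBasis_iff_nbhd.mp Y.isBasis_affineOpens hk
  refine ⟨W, hW, hpW, ?_⟩
  haveI := QCohLib.finite_of_isFT hM hW
  exact Module.Finite.equiv (LinearEquiv.ofBijective
    ({ toFun := twEval M C d k hWk, map_add' := map_add _, map_smul' := twEval_smul M C d k hWk } : _ →ₗ[Γ(Y, W)] _)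
    (twEval_bijective M C d k hWk)).symm

/-- A section as a twisted section of degree zero. -/
noncomputable def toTwZero (V : Y.Opens) : Γ(M, V) →+ Γ(tw M C 0, V) :=
  AddMonoidHom.mk' (fun t => (twSec M C 0 V).symm ⟨fun i => rsM M inf_le_right t, fun i j W hi hj => by
    show rsM M hi (rsM M _ t) = C.u 0 i j _ _ • rsM M hj (rsM M _ t)
    rw [C.u_zero, one_smul, rsM_rsM, rsM_rsM]⟩) fun a b => by
      apply (twSec M C 0 V).injective
      refine twAdd_ext fun i => ?_
      rw [map_add, AddEquiv.apply_symm_apply, AddEquiv.apply_symm_apply, AddEquiv.apply_symm_apply, map_add]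
      exact map_add (rsM M _) a b

lemma toTwZero_bijective (hC : ⨆ i, C.U i = ⊤) (V : Y.Opens) : Function.Bijective (toTwZero M C V) := by
  let F : TopCat.Sheaf AddCommGrpCat Y.toTopCat := Coh.toAb M
  have hcov : V ≤ ⨆ i, C.U i ⊓ V := fun p hp => by
    obtain ⟨i, hi⟩ := Opens.mem_iSup.1 (hC.ge (Opens.mem_top p))
    exact Opens.mem_iSup.2 ⟨i, hi, hp⟩
  refine ⟨fun a b h => ?_, fun a => ?_⟩
  · exact TopCat.Sheaf.eq_of_locally_eq' F (fun i => C.U i ⊓ V) V (fun i => homOfLE inf_le_right) hcov a b fun i =>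
      congrArg (fun x => twComp i (twSec M C 0 V x)) h
  · obtain ⟨g, hg, -⟩ := TopCat.Sheaf.existsUnique_gluing' F (fun i => C.U i ⊓ V) V (fun i => homOfLE inf_le_right) hcov
      (fun i => twComp i (twSec M C 0 V a)) fun i j => by
        have e := (twSec M C 0 V a).2 i j ((C.U i ⊓ V) ⊓ (C.U j ⊓ V)) inf_le_left inf_le_right
        rw [C.u_zero, one_smul] at e
        exact e
    exact ⟨g, (twSec M C 0 V).injective (twAdd_ext fun i => hg i)⟩

/-- The zeroth twist is the module. -/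
noncomputable def twZeroHom : M ⟶ tw M C 0 :=
  ⟨PresheafOfModules.homMk (M₁ := M.val) (M₂ := twPMod M C 0)
    { app := fun V => AddCommGrpCat.ofHom (toTwZero M C V.unop)
      naturality := fun V W i => ConcreteCategory.hom_ext _ _ fun t => twAdd_ext fun k =>
        ((rsM_rsM M (leOfHom i.unop) inf_le_right t).trans (rsM_rsM M inf_le_right _ t).symm) }
    fun V (r : Γ(Y, V.unop)) t => twAdd_ext fun k => rsM_smul M inf_le_right r t⟩

theorem isIso_twZeroHom (hC : ⨆ i, C.U i = ⊤) : IsIso (twZeroHom M C) :=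
  QCohLib.isIso_of_bijective_affine _ fun V _ => toTwZero_bijective M C hC V

end AtlasCoh
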