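import Groth.Agent.GradedCechLib.CechNatural
import Groth.Agent.QCohLib.Push
import Groth.Agent.QCohLib.Vanishing
import Groth.Prelude.Def_Coh

/-!
# Cohomology of a direct image through a common Čech complex

If a finite family covers `Y`, its members' intersections are acyclic for `f_* M` and their preimages' intersections
are acyclic for `M`, both cohomologies are computed by the same Čech complex, compatibly with global functions of `Y`.
-/

universe u

open CategoryTheory CategoryTheory.Limits AlgebraicGeometry Opposite TopologicalSpace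
open QCohLib (AbSh HU toAbF)

namespace AtlasCoh

variable {X Y : Scheme.{u}} (f : X ⟶ Y) (M : X.Modules) {ι : Type u} (V : ι → Y.Opens)

/-- The preimage family. -/
noncomputable abbrev preFam : ι → X.Opens := fun i => f ⁻¹ᵁ V i

lemma cap_preFam {p : ℕ} (J : Fin p → ι) : CechLib.cap (preFam f V) J = f ⁻¹ᵁ CechLib.cap V J := by
  refine le_antisymm (fun x hx => ?_) ((CechLib.le_cap_iff _).mpr fun a => f.preimage_mono (CechLib.cap_le V J a))
  show f x ∈ CechLib.cap V J
  have h : ∀ a, f x ∈ V (J a) := fun a => CechLib.cap_le (preFam f V) J a hx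
  suffices key : ∀ t : Finset (Fin p), f x ∈ t.inf fun a => V (J a) from
    ((CechLib.le_cap_iff V (W := Finset.univ.inf fun a => V (J a))).mpr fun a => Finset.inf_le (Finset.mem_univ a)) (key Finset.univ)
  intro t
  induction t using Finset.cons_induction with
  | empty => exact Opens.mem_top _
  | cons a t _ ih => rw [Finset.inf_cons]; exact ⟨h a, ih⟩

/-- Cochains of a direct image. -/
noncomputable def pushCochain (p : ℕ) :
    CechLib.Cochain (preFam f V) (Coh.toAb M).obj p ≃+ CechLib.Cochain V (Coh.toAb ((Coh.push f).obj M)).obj p where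
  toFun c J := CechLib.rs (Coh.toAb M).obj (cap_preFam f V J).ge (c J)
  invFun c J := CechLib.rs (Coh.toAb M).obj (cap_preFam f V J).le (c J)
  left_inv c := funext fun J => (CechLib.rs_rs (Coh.toAb M).obj _ _ _).trans (CechLib.rs_self _ _)
  right_inv c := funext fun J => (CechLib.rs_rs (Coh.toAb M).obj _ _ _).trans (CechLib.rs_self _ _)
  map_add' c c' := funext fun J => map_add (CechLib.rs (Coh.toAb M).obj _) _ _

lemma rs_push {U U' : Y.Opens} (h : U' ≤ U) (x : (Coh.toAb M).obj.obj (op (f ⁻¹ᵁ U))) :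
    CechLib.rs (Coh.toAb ((Coh.push f).obj M)).obj h x = CechLib.rs (Coh.toAb M).obj (f.preimage_mono h) x := rfl

lemma pushCochain_dd (p : ℕ) (c : CechLib.Cochain (preFam f V) (Coh.toAb M).obj p) :
    pushCochain f M V (p + 1) (CechLib.dd (preFam f V) (Coh.toAb M).obj p c) =
      CechLib.dd V (Coh.toAb ((Coh.push f).obj M)).obj p (pushCochain f M V p c) := by
  funext J
  show CechLib.rs (Coh.toAb M).obj _ (CechLib.dd (preFam f V) (Coh.toAb M).obj p c J) = _
  rw [CechLib.dd_apply, CechLib.dd_apply, map_sum]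
  refine Finset.sum_congr rfl fun k _ => ?_
  rw [map_zsmul]
  refine congrArg (fun x => ((-1 : ℤ) ^ (k : ℕ)) • x) ?_
  exact (CechLib.rs_rs (Coh.toAb M).obj _ _ _).trans (CechLib.rs_rs (Coh.toAb M).obj _ _ _).symm

/-- The components of the comparison. -/
noncomputable def pushCxX (p : ℕ) : (CechLib.cx (preFam f V) (Coh.toAb M).obj).X p ≅
    (CechLib.cx V (Coh.toAb ((Coh.push f).obj M)).obj).X p :=
  ((CechLib.cochainEquiv (preFam f V) (Coh.toAb M).obj p).trans ((pushCochain f M V p).trans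
    (CechLib.cochainEquiv V (Coh.toAb ((Coh.push f).obj M)).obj p).symm)).toAddCommGrpIso

lemma cochainEquiv_pushCxX (p : ℕ) (c : (CechLib.cx (preFam f V) (Coh.toAb M).obj).X p) :
    CechLib.cochainEquiv V (Coh.toAb ((Coh.push f).obj M)).obj p ((pushCxX f M V p).hom c) =
      pushCochain f M V p (CechLib.cochainEquiv (preFam f V) (Coh.toAb M).obj p c) :=
  (CechLib.cochainEquiv V (Coh.toAb ((Coh.push f).obj M)).obj p).apply_symm_apply _

/-- The common complex. -/
noncomputable def pushCx : CechLib.cx (preFam f V) (Coh.toAb M).obj ≅ CechLib.cx V (Coh.toAb ((Coh.push f).obj M)).obj :=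
  HomologicalComplex.Hom.isoOfComponents (pushCxX f M V) fun i j hij => by
    obtain rfl : i + 1 = j := hij
    refine ConcreteCategory.hom_ext _ _ fun c => ?_
    apply (CechLib.cochainEquiv V (Coh.toAb ((Coh.push f).obj M)).obj (i + 1)).injective
    refine (CechLib.ev_d _ _ i _).trans ?_
    refine (congrArg (CechLib.dd _ _ i) (cochainEquiv_pushCxX f M V i c)).trans ?_
    refine Eq.trans ?_ (cochainEquiv_pushCxX f M V (i + 1) _).symm
    exact (pushCochain_dd f M V i _).symm.trans (congrArg (pushCochain f M V (i + 1)) (CechLib.ev_d _ _ i c).symm)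

lemma pushCx_smul (r : Γ(Y, ⊤)) :
    (cechComplexFunctor (preFam f V)).map (Coh.smulAb M (f.appTop r)).hom ≫ (pushCx f M V).hom =
      (pushCx f M V).hom ≫ (cechComplexFunctor V).map (Coh.smulAb ((Coh.push f).obj M) r).hom := by
  ext p : 1
  refine ConcreteCategory.hom_ext _ _ fun c => ?_
  apply (CechLib.cochainEquiv V (Coh.toAb ((Coh.push f).obj M)).obj p).injective
  refine (cochainEquiv_pushCxX f M V p _).trans ?_
  funext J
  refine Eq.trans ?_ (CechLib.cochainEquiv_map V (Coh.smulAb ((Coh.push f).obj M) r).hom p _ J).symm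
  refine Eq.trans ?_ (congrArg ((Coh.smulAb ((Coh.push f).obj M) r).hom.app (op (CechLib.cap V J)))
    (congrFun (cochainEquiv_pushCxX f M V p c) J).symm)
  show CechLib.rs (Coh.toAb M).obj _ (CechLib.cochainEquiv (preFam f V) (Coh.toAb M).obj p _ J) = _
  refine (congrArg _ (CechLib.cochainEquiv_map (preFam f V) (Coh.smulAb M (f.appTop r)).hom p c J)).trans ?_
  refine (ConcreteCategory.congr_hom ((Coh.smulAb M (f.appTop r)).hom.naturality (homOfLE (cap_preFam f V J).ge).op) _).symm.trans ?_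
  exact congrArg (fun a : Γ(X, f ⁻¹ᵁ CechLib.cap V J) => a • (show Γ(M, f ⁻¹ᵁ CechLib.cap V J) from
    CechLib.rs (Coh.toAb M).obj (cap_preFam f V J).ge (CechLib.cochainEquiv (preFam f V) (Coh.toAb M).obj p c J)))
    (QCohLib.app_res f (le_top : CechLib.cap V J ≤ ⊤) r).symm

/-- **The cohomology of `M` and of `f_* M` agree, compatibly with functions on `Y`.** -/
theorem exists_HH_push_equiv (hV : ⨆ i, V i = ⊤) (h₁ : CechLib.Acyc (preFam f V) ((toAbF X).obj M))
    (h₂ : CechLib.Acyc V ((toAbF Y).obj ((Coh.push f).obj M))) (p : ℕ) :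
    ∃ e : Coh.HH X M p ≃+ Coh.HH Y ((Coh.push f).obj M) p,
      ∀ (r : Γ(Y, ⊤)) x, e (HSMul.hSMul (α := Coh.Γtop X) (f.appTop r) x) = HSMul.hSMul (α := Coh.Γtop Y) r (e x) := by
  obtain ⟨e₁, he₁⟩ := GradedCechLib.exists_homology_equiv_natural (preFam f V) p (Coh.toAb M) h₁
  obtain ⟨e₂, he₂⟩ := GradedCechLib.exists_homology_equiv_natural V p (Coh.toAb ((Coh.push f).obj M)) h₂
  have hcast : ∀ {Z : Scheme.{u}} (F : Z.Modules) {V₁ W : Z.Opens}, V₁ = W →
      ∃ c : HU (Coh.toAb F) p V₁ ≃+ HU (Coh.toAb F) p W, ∀ (g : Coh.toAb F ⟶ Coh.toAb F) (y : HU (Coh.toAb F) p V₁),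
        c (y.comp (Abelian.Ext.mk₀ g) (add_zero p)) = (c y).comp (Abelian.Ext.mk₀ g) (add_zero p) := by
    rintro Z F V₁ _ rfl
    exact ⟨AddEquiv.refl _, fun _ _ => rfl⟩
  have htop : ⨆ i, preFam f V i = ⊤ := eq_top_iff.2 fun x _ => by
    obtain ⟨i, hi⟩ := Opens.mem_iSup.1 (hV.ge (Opens.mem_top (f x)))
    exact Opens.mem_iSup.2 ⟨i, hi⟩
  obtain ⟨c₁, hc₁⟩ := hcast M htop
  obtain ⟨c₂, hc₂⟩ := hcast ((Coh.push f).obj M) hV
  let Φ := ((HomologicalComplex.homologyFunctor _ _ p).mapIso (pushCx f M V)).addCommGroupIsoToAddEquiv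
  refine ⟨(QCohLib.hEquiv (Coh.toAb M) p).trans ((e₁.trans c₁).symm.trans (Φ.trans ((e₂.trans c₂).trans
    (QCohLib.hEquiv (Coh.toAb ((Coh.push f).obj M)) p).symm))), fun r x => ?_⟩
  apply (QCohLib.hEquiv (Coh.toAb ((Coh.push f).obj M)) p).injective
  refine ((QCohLib.hEquiv (Coh.toAb ((Coh.push f).obj M)) p).apply_symm_apply _).trans ?_
  refine Eq.trans ?_ (QCohLib.hEquiv_map (Coh.smulAb ((Coh.push f).obj M) r) p _).symm
  obtain ⟨z, hz⟩ := (e₁.trans c₁).surjective (QCohLib.hEquiv (Coh.toAb M) p x)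
  have h1 : QCohLib.hEquiv (Coh.toAb M) p (HSMul.hSMul (α := Coh.Γtop X) (f.appTop r) x) =
      (e₁.trans c₁) (GradedCechLib.hMap (preFam f V) (Coh.smulAb M (f.appTop r)) p z) := by
    refine (QCohLib.hEquiv_map (Coh.smulAb M (f.appTop r)) p x).trans ?_
    rw [← hz]
    exact ((congrArg c₁ (he₁ _ z)).trans (hc₁ _ _)).symm
  have h2 : Φ (GradedCechLib.hMap (preFam f V) (Coh.smulAb M (f.appTop r)) p z) =
      GradedCechLib.hMap V (Coh.smulAb ((Coh.push f).obj M) r) p (Φ z) :=
    ConcreteCategory.congr_hom (((HomologicalComplex.homologyMap_comp _ _ p).symm.trans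
      (congrArg (fun φ => HomologicalComplex.homologyMap φ p) (pushCx_smul f M V r))).trans
        (HomologicalComplex.homologyMap_comp _ _ p)) z
  have h3 : ∀ w, (e₂.trans c₂) (GradedCechLib.hMap V (Coh.smulAb ((Coh.push f).obj M) r) p w) =
      ((e₂.trans c₂) w).comp (Abelian.Ext.mk₀ (Coh.smulAb ((Coh.push f).obj M) r)) (add_zero p) := fun w =>
    (congrArg c₂ (he₂ _ w)).trans (hc₂ _ _)
  have s1 : (e₁.trans c₁).symm (QCohLib.hEquiv (Coh.toAb M) p x) = z := by
    rw [AddEquiv.symm_apply_eq]; exact hz.symm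
  have s2 : (e₁.trans c₁).symm (QCohLib.hEquiv (Coh.toAb M) p (HSMul.hSMul (α := Coh.Γtop X) (f.appTop r) x)) =
      GradedCechLib.hMap (preFam f V) (Coh.smulAb M (f.appTop r)) p z := by
    rw [AddEquiv.symm_apply_eq]; exact h1
  refine Eq.trans (congrArg (fun w => (e₂.trans c₂) (Φ w)) s2) ?_
  refine Eq.trans (congrArg (e₂.trans c₂) h2) ((h3 _).trans ?_)
  refine congrArg (fun w => Abelian.Ext.comp w (Abelian.Ext.mk₀ (Coh.smulAb ((Coh.push f).obj M) r)) (add_zero p)) ?_
  refine Eq.trans ?_ ((QCohLib.hEquiv (Coh.toAb ((Coh.push f).obj M)) p).apply_symm_apply _).symm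
  exact congrArg (fun w => (e₂.trans c₂) (Φ w)) s1.symm

end AtlasCoh
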