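import Groth.Agent.AtlasCohLib.Coh
import Groth.Agent.AtlasCohLib.PushCech
import Groth.Agent.QCohLib.Coherent

/-!
# Modules with finite cohomology over the base
-/

universe u

open CategoryTheory CategoryTheory.Limits AlgebraicGeometry Opposite TopologicalSpace
open QCohLib (AbSh HU toAbF)

namespace AtlasCoh

variable {A : Type u} [CommRing A] {Y : Scheme.{u}}

/-- All cohomology groups of a module are finite over the base ring. -/
def FiniteCoh (g : Y ⟶ Spec (CommRingCat.of A)) (N : Y.Modules) : Prop :=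
  ∀ p : ℕ, @Module.Finite A (Coh.HH Y N p) _ _ (Module.compHom (Coh.HH Y N p) (Coh.toGlobal g))

variable {g : Y ⟶ Spec (CommRingCat.of A)}

/-- Finiteness passes along additive isomorphisms compatible with scalars. -/
lemma finite_of_addEquiv {B : Type u} [CommRing B] {P Q : Type u} [AddCommGroup P] [AddCommGroup Q] [Module B P] [Module B Q]
    (e : P ≃+ Q) (he : ∀ (r : B) x, e (r • x) = r • e x) [Module.Finite B P] : Module.Finite B Q :=
  Module.Finite.equiv ({ e with map_smul' := he } : P ≃ₗ[B] Q)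

lemma smulAb_natural {M N : Y.Modules} (φ : M ⟶ N) (r : Coh.Γtop Y) :
    Coh.smulAb M r ≫ (toAbF Y).map φ = (toAbF Y).map φ ≫ Coh.smulAb N r := by
  ext V m
  exact QCohLib.app_smul φ V.unop (Coh.resTop Y V r) m

lemma smulΓ_def (M : Y.Modules) (p : ℕ) (r : Coh.Γtop Y) (x : Coh.HH Y M p) :
    r • x = Sheaf.H.map (Coh.smulAb M r) p x := rfl

lemma smulA_def (g : Y ⟶ Spec (CommRingCat.of A)) (M : Y.Modules) (p : ℕ) (r : A) (x : Coh.HH Y M p) :
    letI := Module.compHom (Coh.HH Y M p) (Coh.toGlobal g)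
    r • x = HSMul.hSMul (α := Coh.Γtop Y) (Coh.toGlobal g r) x := rfl

/-- The map on cohomology. -/
noncomputable def hLin (g : Y ⟶ Spec (CommRingCat.of A)) {M N : Y.Modules} (φ : M ⟶ N) (p : ℕ) :
    letI := Module.compHom (Coh.HH Y M p) (Coh.toGlobal g)
    letI := Module.compHom (Coh.HH Y N p) (Coh.toGlobal g)
    Coh.HH Y M p →ₗ[A] Coh.HH Y N p :=
  letI := Module.compHom (Coh.HH Y M p) (Coh.toGlobal g)
  letI := Module.compHom (Coh.HH Y N p) (Coh.toGlobal g)
  { toFun := Sheaf.H.map ((toAbF Y).map φ) p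
    map_add' := map_add _
    map_smul' := fun r x => by
      rw [RingHom.id_apply, smulA_def, smulA_def, smulΓ_def, smulΓ_def, ← Sheaf.H.map_comp_apply, ← Sheaf.H.map_comp_apply, smulAb_natural] }

theorem FiniteCoh.of_iso {M N : Y.Modules} (e : M ≅ N) (h : FiniteCoh g M) : FiniteCoh g N := fun p => by
  let _ := Module.compHom (Coh.HH Y M p) (Coh.toGlobal g)
  let _ := Module.compHom (Coh.HH Y N p) (Coh.toGlobal g)
  have := h p
  refine Module.Finite.of_surjective (hLin g e.hom p) fun y => ⟨hLin g e.inv p y, ?_⟩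
  show Sheaf.H.map _ p (Sheaf.H.map _ p y) = y
  rw [← Sheaf.H.map_comp_apply, ← Functor.map_comp, e.inv_hom_id, CategoryTheory.Functor.map_id, Sheaf.H.map_id_apply]

lemma finite_of_three {P Q T : Type u} [AddCommGroup P] [AddCommGroup Q] [AddCommGroup T] [Module A P] [Module A Q] [Module A T]
    [IsNoetherianRing A] (f : P →ₗ[A] Q) (k : Q →ₗ[A] T) (hex : ∀ y, k y = 0 → ∃ x, f x = y)
    [Module.Finite A P] [Module.Finite A T] : Module.Finite A Q := by
  have hker : LinearMap.ker k ≤ LinearMap.range f := fun y hy => hex y hy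
  have : (LinearMap.range f).FG := by rw [LinearMap.range_eq_map]; exact Module.Finite.fg_top.map f
  have : IsNoetherian A T := isNoetherian_of_isNoetherianRing_of_finite A T
  have : IsNoetherian A (LinearMap.range f) :=
    have : Module.Finite A (LinearMap.range f) := Module.Finite.iff_fg.2 ‹_›
    isNoetherian_of_isNoetherianRing_of_finite A _
  refine ⟨Submodule.fg_of_fg_map_of_fg_inf_ker k (IsNoetherian.noetherian _) ?_⟩
  rw [top_inf_eq]
  have h : LinearMap.ker k = ((LinearMap.ker k).comap (LinearMap.range f).subtype).map (LinearMap.range f).subtype := by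
    rw [Submodule.map_comap_subtype, inf_eq_right.2 hker]
  rw [h]
  exact (IsNoetherian.noetherian _).map _

section Ext

variable {T : ShortComplex (AbSh Y.toTopCat)} (hT : T.ShortExact)

/-- The connecting homomorphism. -/
noncomputable def hδ (p : ℕ) : Sheaf.H T.X₃ p →+ Sheaf.H T.X₁ (p + 1) :=
  hT.extClass.postcomp _ rfl

include hT in
lemma hExact₂ (p : ℕ) (y : Sheaf.H T.X₂ p) (hy : Sheaf.H.map T.g p y = 0) : ∃ x, Sheaf.H.map T.f p x = y :=
  Abelian.Ext.covariant_sequence_exact₂ _ hT y hy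

lemma hExact₃ (p : ℕ) (y : Sheaf.H T.X₃ p) (hy : hδ hT p y = 0) : ∃ x, Sheaf.H.map T.g p x = y :=
  Abelian.Ext.covariant_sequence_exact₃ _ hT y rfl hy

lemma hExact₁ (p : ℕ) (y : Sheaf.H T.X₁ (p + 1)) (hy : Sheaf.H.map T.f (p + 1) y = 0) : ∃ x, hδ hT p x = y :=
  Abelian.Ext.covariant_sequence_exact₁ _ hT y hy rfl

include hT in
lemma hMap_injective : Function.Injective (Sheaf.H.map T.f 0) :=
  have := hT.mono_f
  Abelian.Ext.postcomp_mk₀_injective_of_mono _ T.f

end Ext

section Seq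

variable {S : ShortComplex Y.Modules} (hS : S.ShortExact)

/-- The scalar endomorphism of a short exact sequence. -/
noncomputable def smulSeq (S : ShortComplex Y.Modules) (r : Coh.Γtop Y) : S.map (toAbF Y) ⟶ S.map (toAbF Y) :=
  ShortComplex.homMk (Coh.smulAb S.X₁ r) (Coh.smulAb S.X₂ r) (Coh.smulAb S.X₃ r)
    (smulAb_natural S.f r) (smulAb_natural S.g r)

omit hS in
lemma hδ_natural {T : ShortComplex (AbSh Y.toTopCat)} (hT : T.ShortExact) (φ : T ⟶ T) (p : ℕ) (x : Sheaf.H T.X₃ p) :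
    hδ hT p (Sheaf.H.map φ.τ₃ p x) = Sheaf.H.map φ.τ₁ (p + 1) (hδ hT p x) := by
  show (Abelian.Ext.comp x (Abelian.Ext.mk₀ φ.τ₃) (add_zero p)).comp hT.extClass rfl =
    (Abelian.Ext.comp x hT.extClass rfl).comp (Abelian.Ext.mk₀ φ.τ₁) (add_zero (p + 1))
  rw [Abelian.Ext.comp_assoc_of_second_deg_zero, ← ShortComplex.ShortExact.extClass_naturality hT hT φ,
    Abelian.Ext.comp_assoc_of_third_deg_zero]

include hS in
/-- The connecting map. -/
noncomputable def δLin (g : Y ⟶ Spec (CommRingCat.of A)) (p : ℕ) :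
    letI := Module.compHom (Coh.HH Y S.X₃ p) (Coh.toGlobal g)
    letI := Module.compHom (Coh.HH Y S.X₁ (p + 1)) (Coh.toGlobal g)
    Coh.HH Y S.X₃ p →ₗ[A] Coh.HH Y S.X₁ (p + 1) :=
  letI := Module.compHom (Coh.HH Y S.X₃ p) (Coh.toGlobal g)
  letI := Module.compHom (Coh.HH Y S.X₁ (p + 1)) (Coh.toGlobal g)
  { toFun := hδ (QCohLib.toAbF_shortExact hS) p
    map_add' := map_add (hδ (QCohLib.toAbF_shortExact hS) p)
    map_smul' := fun r x => hδ_natural (QCohLib.toAbF_shortExact hS) (smulSeq S (Coh.toGlobal g r)) p x }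

variable [IsNoetherianRing A]

include hS in
theorem FiniteCoh.mid (h₁ : FiniteCoh g S.X₁) (h₃ : FiniteCoh g S.X₃) : FiniteCoh g S.X₂ := fun p => by
  let _ := Module.compHom (Coh.HH Y S.X₁ p) (Coh.toGlobal g)
  let _ := Module.compHom (Coh.HH Y S.X₂ p) (Coh.toGlobal g)
  let _ := Module.compHom (Coh.HH Y S.X₃ p) (Coh.toGlobal g)
  have := h₁ p
  have := h₃ p
  exact finite_of_three (hLin g S.f p) (hLin g S.g p) fun y hy =>
    hExact₂ (QCohLib.toAbF_shortExact hS) p y hy

include hS in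
theorem FiniteCoh.right (h₁ : FiniteCoh g S.X₁) (h₂ : FiniteCoh g S.X₂) : FiniteCoh g S.X₃ := fun p => by
  let _ := Module.compHom (Coh.HH Y S.X₁ (p + 1)) (Coh.toGlobal g)
  let _ := Module.compHom (Coh.HH Y S.X₂ p) (Coh.toGlobal g)
  let _ := Module.compHom (Coh.HH Y S.X₃ p) (Coh.toGlobal g)
  have := h₂ p
  have := h₁ (p + 1)
  exact finite_of_three (hLin g S.g p) (δLin hS g p) fun y hy =>
    hExact₃ (QCohLib.toAbF_shortExact hS) p y hy

include hS in
theorem FiniteCoh.left (h₂ : FiniteCoh g S.X₂) (h₃ : FiniteCoh g S.X₃) : FiniteCoh g S.X₁ := fun p => by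
  match p with
  | 0 =>
    let _ := Module.compHom (Coh.HH Y S.X₁ 0) (Coh.toGlobal g)
    let _ := Module.compHom (Coh.HH Y S.X₂ 0) (Coh.toGlobal g)
    have := h₂ 0
    exact Module.Finite.of_injective (hLin g S.f 0) (hMap_injective (QCohLib.toAbF_shortExact hS))
  | p + 1 =>
    let _ := Module.compHom (Coh.HH Y S.X₁ (p + 1)) (Coh.toGlobal g)
    let _ := Module.compHom (Coh.HH Y S.X₂ (p + 1)) (Coh.toGlobal g)
    have := h₂ (p + 1)
    let _ := Module.compHom (Coh.HH Y S.X₃ p) (Coh.toGlobal g)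
    have := h₃ p
    exact finite_of_three (δLin hS g p) (hLin g S.f (p + 1)) fun y hy =>
      hExact₁ (QCohLib.toAbF_shortExact hS) p y hy

end Seq

variable {n : ℕ} {C : Coords n Y} [IsNoetherianRing A]

/-- Twists on an atlas over the whole scheme have finite cohomology. -/
theorem finiteCoh_tw (a : Atlas C ⊤ A) (ha : a.cst = Coh.toGlobal g) (M : Y.Modules) [Coh.IsQCoh M]
    (hM : CohB1.IsFT M) (d : ℤ) : FiniteCoh g (tw M C d) := fun p => by
  let _ := Module.compHom (Coh.HH Y (tw M C d) p) (Coh.toGlobal g)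
  have hC : ⨆ i, C.U i = ⊤ := top_le_iff.1 a.le_iSup
  have := isQCoh_tw M C d hC
  have := finite_H_tw a M hM d p
  obtain ⟨e, he⟩ := exists_HU_equiv a (tw M C d) a.cst (fun r => resO_self _ _) p
  refine finite_of_addEquiv (e.trans (QCohLib.hEquiv (Coh.toAb (tw M C d)) p).symm) fun r x => ?_
  apply (QCohLib.hEquiv (Coh.toAb (tw M C d)) p).injective
  refine ((QCohLib.hEquiv (Coh.toAb (tw M C d)) p).apply_symm_apply _).trans ((he r x).trans ?_)
  refine Eq.trans ?_ (QCohLib.hEquiv_map (Coh.smulAb (tw M C d) (Coh.toGlobal g r)) p _).symm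
  rw [AddEquiv.trans_apply, AddEquiv.apply_symm_apply, ha]
  rfl

variable {X' : Scheme.{u}} {π : X' ⟶ Y}

omit [IsNoetherianRing A] in
/-- Transfer along a morphism through a common acyclic cover. -/
theorem FiniteCoh.push {ι : Type u} (V : ι → Y.Opens) (hV : ⨆ i, V i = ⊤) (M : X'.Modules)
    (h₁ : CechLib.Acyc (preFam π V) ((toAbF X').obj M))
    (h₂ : CechLib.Acyc V ((toAbF Y).obj ((Coh.push π).obj M))) (h : FiniteCoh (π ≫ g) M) :
    FiniteCoh g ((Coh.push π).obj M) := fun p => by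
  let _ := Module.compHom (Coh.HH X' M p) (Coh.toGlobal (π ≫ g))
  let _ := Module.compHom (Coh.HH Y ((Coh.push π).obj M) p) (Coh.toGlobal g)
  have := h p
  obtain ⟨e, he⟩ := exists_HH_push_equiv π M V hV h₁ h₂ p
  exact finite_of_addEquiv e fun r x => he (Coh.toGlobal g r) x

lemma isAffineOpen_cap [Y.IsSeparated] {ι : Type u} (V : ι → Y.Opens) (hV : ∀ i, IsAffineOpen (V i)) :
    ∀ {m : ℕ} (J : Fin (m + 1) → ι), IsAffineOpen (CechLib.cap V J) := fun J =>
  IsAffineOpen.iInf fun a => hV (J a)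

omit [IsNoetherianRing A] in
/-- Transfer along an affine morphism. -/
theorem FiniteCoh.push_affine [Y.IsSeparated] [IsAffineHom π] (M : X'.Modules) [Coh.IsQCoh M]
    (h : FiniteCoh (π ≫ g) M) : FiniteCoh g ((Coh.push π).obj M) := by
  have : Coh.IsQCoh ((Coh.push π).obj M) := QCohLib.isQCoh_pushforward π M
  refine FiniteCoh.push (fun U : Y.affineOpens => U.1) (iSup_affineOpens_eq_top Y) M (fun m J q => ?_) (fun m J q => ?_) h
  · rw [cap_preFam]
    exact QCohLib.subsingleton_HU_affine M q (IsAffineOpen.preimage (isAffineOpen_cap _ (fun U : Y.affineOpens => U.2) J) π)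
  · exact QCohLib.subsingleton_HU_affine _ q (isAffineOpen_cap _ (fun U : Y.affineOpens => U.2) J)

end AtlasCoh
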