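import Groth.Agent.GradedCechLib.Free
import Groth.Agent.QCohLib.Vanishing
import Groth.Prelude.Def_Coh

/-!
# Coordinate systems: homogeneous coordinates on a scheme, and atlases over a ring

`Coords n Y` is what a morphism to projective `n`-space leaves on `Y`: opens `U i` with the ratios `x j / x i`.
`Atlas C Ω R` says that over the open `Ω` the coordinates define a closed immersion into projective space over `R`.
-/

universe u

open CategoryTheory AlgebraicGeometry Opposite TopologicalSpace MvPolynomial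

namespace AtlasCoh

open GradedCechLib (xs)

variable {Y : Scheme.{u}}

/-- Restriction of functions. -/
noncomputable abbrev resO {V W : Y.Opens} (h : W ≤ V) : Γ(Y, V) →+* Γ(Y, W) := (Y.presheaf.map (homOfLE h).op).hom

lemma resO_resO {V W Z : Y.Opens} (h : W ≤ V) (h' : Z ≤ W) (x : Γ(Y, V)) : resO h' (resO h x) = resO (h'.trans h) x := by
  change (Y.presheaf.map (homOfLE h).op ≫ Y.presheaf.map (homOfLE h').op).hom x = _
  rw [← Functor.map_comp]
  rfl

lemma resO_self {V : Y.Opens} (h : V ≤ V) (x : Γ(Y, V)) : resO h x = x := by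
  change (Y.presheaf.map (𝟙 (op V))).hom x = x
  simp

lemma basicOpen_resO {V W : Y.Opens} (h : W ≤ V) (f : Γ(Y, V)) : Y.basicOpen (resO h f) = W ⊓ Y.basicOpen f :=
  Scheme.basicOpen_res _ f (homOfLE h).op

/-- Homogeneous coordinates on a scheme: `coord i j` stands for `x j / x i` on `U i`. -/
structure Coords (n : ℕ) (Y : Scheme.{u}) where
  U : Fin (n + 1) → Y.Opens
  coord : ∀ i, Fin (n + 1) → Γ(Y, U i)
  coord_self : ∀ i, coord i i = 1
  cocycle : ∀ (i j k : Fin (n + 1)) (W : Y.Opens) (hi : W ≤ U i) (hj : W ≤ U j),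
    resO hi (coord i k) = resO hj (coord j k) * resO hi (coord i j)
  basicOpen_coord : ∀ i j, Y.basicOpen (coord i j) = U i ⊓ U j

namespace Coords

variable {n : ℕ} (C : Coords n Y)

/-- The intersection of the opens of a set of indices. -/
noncomputable abbrev Uof (s : Finset (Fin (n + 1))) : Y.Opens := s.inf C.U

lemma Uof_le {s : Finset (Fin (n + 1))} {i : Fin (n + 1)} (h : i ∈ s) : C.Uof s ≤ C.U i := Finset.inf_le h

lemma coord_inv (i j : Fin (n + 1)) {W : Y.Opens} (hi : W ≤ C.U i) (hj : W ≤ C.U j) :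
    resO hj (C.coord j i) * resO hi (C.coord i j) = 1 := by
  have h := C.cocycle i j i W hi hj
  rwa [C.coord_self, map_one, eq_comm] at h

/-- The change of coordinates as a unit. -/
noncomputable def unit (i j : Fin (n + 1)) {W : Y.Opens} (hi : W ≤ C.U i) (hj : W ≤ C.U j) : (Γ(Y, W))ˣ where
  val := resO hi (C.coord i j)
  inv := resO hj (C.coord j i)
  val_inv := (mul_comm _ _).trans (C.coord_inv i j hi hj)
  inv_val := C.coord_inv i j hi hj

lemma val_unit (i j : Fin (n + 1)) {W : Y.Opens} (hi : W ≤ C.U i) (hj : W ≤ C.U j) :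
    (C.unit i j hi hj : Γ(Y, W)) = resO hi (C.coord i j) := rfl

/-- Powers of the change of coordinates. -/
noncomputable def u (d : ℤ) (i j : Fin (n + 1)) {W : Y.Opens} (hi : W ≤ C.U i) (hj : W ≤ C.U j) : Γ(Y, W) :=
  ((C.unit i j hi hj ^ d : (Γ(Y, W))ˣ) : Γ(Y, W))

lemma u_res (d : ℤ) (i j : Fin (n + 1)) {W Z : Y.Opens} (hi : W ≤ C.U i) (hj : W ≤ C.U j) (hZ : Z ≤ W) :
    resO hZ (C.u d i j hi hj) = C.u d i j (hZ.trans hi) (hZ.trans hj) := by
  have h : Units.map (resO hZ).toMonoidHom (C.unit i j hi hj) = C.unit i j (hZ.trans hi) (hZ.trans hj) :=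
    Units.ext (resO_resO _ _ _)
  rw [u, u, ← h, ← map_zpow]
  rfl

lemma u_zero (i j : Fin (n + 1)) {W : Y.Opens} (hi : W ≤ C.U i) (hj : W ≤ C.U j) : C.u 0 i j hi hj = 1 := by
  simp [u]

lemma u_add (d e : ℤ) (i j : Fin (n + 1)) {W : Y.Opens} (hi : W ≤ C.U i) (hj : W ≤ C.U j) :
    C.u (d + e) i j hi hj = C.u d i j hi hj * C.u e i j hi hj := by
  simp [u, zpow_add]

lemma u_natCast (m : ℕ) (i j : Fin (n + 1)) {W : Y.Opens} (hi : W ≤ C.U i) (hj : W ≤ C.U j) :
    C.u m i j hi hj = resO hi (C.coord i j) ^ m := by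
  rw [u, zpow_natCast, Units.val_pow_eq_pow_val]
  rfl

lemma u_self (d : ℤ) (i : Fin (n + 1)) {W : Y.Opens} (hi hi' : W ≤ C.U i) : C.u d i i hi hi' = 1 := by
  have h : C.unit i i hi hi' = 1 := Units.ext (by rw [val_unit, C.coord_self, map_one]; rfl)
  simp [u, h]

lemma u_mul (d : ℤ) (i j k : Fin (n + 1)) {W : Y.Opens} (hi : W ≤ C.U i) (hj : W ≤ C.U j) (hk : W ≤ C.U k) :
    C.u d i j hi hj * C.u d j k hj hk = C.u d i k hi hk := by
  have h : C.unit i j hi hj * C.unit j k hj hk = C.unit i k hi hk :=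
    Units.ext ((mul_comm _ _).trans (C.cocycle i j k W hi hj).symm)
  rw [u, u, u, ← Units.val_mul, ← mul_zpow, h]

end Coords

/-- An atlas over an open: the coordinates embed `Ω` as a closed subscheme of projective space over `R`. -/
structure Atlas {n : ℕ} (C : Coords n Y) (Ω : Y.Opens) (R : Type u) [CommRing R] where
  le_iSup : Ω ≤ ⨆ i, C.U i
  cst : R →+* Γ(Y, Ω)
  affine : ∀ s : Finset (Fin (n + 1)), s.Nonempty → IsAffineOpen (Ω ⊓ s.inf C.U)
  surj : ∀ i, Function.Surjective (eval₂Hom ((resO (inf_le_left : Ω ⊓ C.U i ≤ Ω)).comp cst)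
    fun j => resO (inf_le_right : Ω ⊓ C.U i ≤ C.U i) (C.coord i j))

namespace Atlas

variable {n : ℕ} {C : Coords n Y} {Ω : Y.Opens} {R : Type u} [CommRing R] (A : Atlas C Ω R)

/-- Dehomogenisation. -/
noncomputable def deh (i : Fin (n + 1)) : MvPolynomial (Fin (n + 1)) R →+* Γ(Y, Ω ⊓ C.U i) :=
  eval₂Hom ((resO (inf_le_left : Ω ⊓ C.U i ≤ Ω)).comp A.cst) fun j => resO (inf_le_right : Ω ⊓ C.U i ≤ C.U i) (C.coord i j)

lemma deh_surjective (i : Fin (n + 1)) : Function.Surjective (A.deh i) := A.surj i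

lemma deh_X (i j : Fin (n + 1)) : A.deh i (X j) = resO (inf_le_right : Ω ⊓ C.U i ≤ C.U i) (C.coord i j) :=
  eval₂Hom_X' _ _ _

lemma deh_X_self (i : Fin (n + 1)) : A.deh i (X i) = 1 := by rw [deh_X, C.coord_self, map_one]

/-- Scalars restricted to an open of `Ω`. -/
noncomputable def cstOn {V : Y.Opens} (h : V ≤ Ω) : R →+* Γ(Y, V) := (resO h).comp A.cst

lemma resO_cstOn {V W : Y.Opens} (h : V ≤ Ω) (h' : W ≤ V) (r : R) : resO h' (A.cstOn h r) = A.cstOn (h'.trans h) r :=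
  resO_resO h h' _

lemma deh_C (i : Fin (n + 1)) (r : R) : A.deh i (MvPolynomial.C r) = A.cstOn inf_le_left r := eval₂Hom_C _ _ _

lemma resO_deh_X (i j k : Fin (n + 1)) {W : Y.Opens} (hi : W ≤ Ω ⊓ C.U i) (hj : W ≤ Ω ⊓ C.U j) :
    resO hi (A.deh i (X k)) = resO hj (A.deh j (X k)) * resO hi (A.deh i (X j)) := by
  simp only [deh_X, resO_resO]
  exact C.cocycle i j k W _ _

lemma basicOpen_deh_X (i j : Fin (n + 1)) : Y.basicOpen (A.deh i (X j)) = Ω ⊓ C.U i ⊓ C.U j := by
  rw [deh_X, basicOpen_resO, C.basicOpen_coord, ← inf_assoc, inf_eq_left.2 (inf_le_right : Ω ⊓ C.U i ≤ C.U i)]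

lemma basicOpen_deh_xs (i : Fin (n + 1)) (s : Finset (Fin (n + 1))) :
    Y.basicOpen (A.deh i (xs R s)) = Ω ⊓ C.U i ⊓ C.Uof s := by
  induction s using Finset.induction_on with
  | empty =>
    rw [xs, Finset.prod_empty, map_one, Scheme.basicOpen_of_isUnit _ isUnit_one]
    simp [Coords.Uof]
  | @insert a t ha ih =>
    rw [xs, Finset.prod_insert ha, map_mul, Scheme.basicOpen_mul, basicOpen_deh_X, ← xs, ih, Coords.Uof, Coords.Uof,
      Finset.inf_insert]
    exact (inf_inf_distrib_left _ _ _).symm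

include A in
lemma isAffineOpen_chart (i : Fin (n + 1)) : IsAffineOpen (Ω ⊓ C.U i) := by
  simpa using A.affine {i} (Finset.singleton_nonempty i)

include A in
lemma isAffineOpen_inf (i j : Fin (n + 1)) : IsAffineOpen (Ω ⊓ C.U i ⊓ C.U j) := by
  simpa [inf_assoc] using A.affine {i, j} (Finset.insert_nonempty i {j})

lemma isUnit_deh_xs {s : Finset (Fin (n + 1))} (i : Fin (n + 1)) {W : Y.Opens} (hi : W ≤ Ω ⊓ C.U i) (hs : W ≤ C.Uof s) :
    IsUnit (resO hi (A.deh i (xs R s))) := by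
  rw [xs, map_prod, map_prod, IsUnit.prod_iff]
  exact fun j hj => ⟨C.unit i j (hi.trans inf_le_right) (hs.trans (C.Uof_le hj)), by
    rw [deh_X, resO_resO]; rfl⟩

end Atlas

end AtlasCoh
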