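import Groth.Agent.AtlasCohLib.Gen
import Groth.Agent.GradedCechLib.Main
import Groth.Agent.GradedCechLib.CechNatural

/-!
# Cohomology of twists on an atlas: finiteness and vanishing
-/

universe u

open CategoryTheory CategoryTheory.Limits AlgebraicGeometry Opposite TopologicalSpace
open QCohLib (AbSh HU toAbF)

namespace AtlasCoh

open GradedCechLib (Sys Cochain dd dd_apply res rng rng_nonempty cx cx_d H hMap downT forgetCx homologyMap_smul_id
  map_homologyMap_comp_inv exists_homology_equiv_natural)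

variable {Y : Scheme.{u}} {n : ℕ} {C : Coords n Y} {Ω : Y.Opens} {R : Type u} [CommRing R] (A : Atlas C Ω R)
  (N : Y.Modules)

/-- The cover of `Ω` by charts. -/
noncomputable abbrev cover (_A : Atlas C Ω R) : ULift.{u} (Fin (n + 1)) → Y.Opens := fun i => Ω ⊓ C.U i.down

include A in
lemma iSup_cover : ⨆ i, cover A i = Ω := by
  refine le_antisymm (iSup_le fun i => inf_le_left) fun p hp => ?_
  obtain ⟨i, hi⟩ := Opens.mem_iSup.1 (A.le_iSup hp)
  exact Opens.mem_iSup.2 ⟨⟨i⟩, hp, hi⟩

lemma cap_eq_Uof {p : ℕ} (J : Fin (p + 1) → ULift.{u} (Fin (n + 1))) :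
    CechLib.cap (cover A) J = Ω ⊓ C.Uof (rng (downT J)) := by
  refine le_antisymm (le_inf ((CechLib.cap_le (cover A) J 0).trans inf_le_left) (Finset.le_inf fun i hi => ?_))
    ((CechLib.le_cap_iff _).mpr fun a => ?_)
  · obtain ⟨a, -, rfl⟩ := Finset.mem_image.1 hi
    exact (CechLib.cap_le (cover A) J a).trans inf_le_right
  · exact inf_le_inf_left _ (C.Uof_le (Finset.mem_image_of_mem _ (Finset.mem_univ a)))

lemma acyc_cover [Coh.IsQCoh N] : CechLib.Acyc (cover A) ((toAbF Y).obj N) := fun p J q => by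
  rw [cap_eq_Uof]
  exact QCohLib.subsingleton_HU_affine N q (A.affine _ (rng_nonempty _))

/-- An element of the system as a section. -/
noncomputable def valS {s : Finset (Fin (n + 1))} : (secSys A N).obj s →+ Γ(N, Ω ⊓ C.Uof s) :=
  (toS A N (h := (inf_le_left : Ω ⊓ C.Uof s ≤ Ω))).toAddMonoidHom

lemma valS_bijective {s : Finset (Fin (n + 1))} : Function.Bijective (valS A N (s := s)) :=
  (toS A N (h := (inf_le_left : Ω ⊓ C.Uof s ≤ Ω))).bijective

lemma valS_smul {s : Finset (Fin (n + 1))} (r : R) (x : (secSys A N).obj s) :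
    valS A N (r • x) = A.cstOn (inf_le_left : Ω ⊓ C.Uof s ≤ Ω) r • valS A N x := rfl

/-- A value of the system on a smaller open. -/
noncomputable def rsV {s : Finset (Fin (n + 1))} {W : Y.Opens} (h : W ≤ Ω ⊓ C.Uof s) :
    (secSys A N).obj s →+ ((Coh.toAb N).obj.obj (op W) : AddCommGrpCat.{u}) :=
  (rsM N h).comp (valS A N)

lemma rs_rsV {s : Finset (Fin (n + 1))} {W W' : Y.Opens} (h : W ≤ Ω ⊓ C.Uof s) (h' : W' ≤ W) (x : (secSys A N).obj s) :
    CechLib.rs (Coh.toAb N).obj h' (rsV A N h x) = rsV A N (h'.trans h) x :=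
  rsM_rsM N h h' _

lemma rsV_res {s t : Finset (Fin (n + 1))} (hst : s ⊆ t) {W : Y.Opens} (h : W ≤ Ω ⊓ C.Uof t) (x : (secSys A N).obj s) :
    rsV A N h (res (secSys A N) hst x) = rsV A N (h.trans (inf_le_inf_left _ (Finset.inf_mono hst))) x :=
  rsM_rsM N _ h _

lemma rsV_bijective {s : Finset (Fin (n + 1))} {W : Y.Opens} (h : W ≤ Ω ⊓ C.Uof s) (h' : Ω ⊓ C.Uof s ≤ W) :
    Function.Bijective (rsV A N h) := by
  refine ⟨fun x y e => (valS_bijective A N).1 ?_, fun y => ?_⟩
  · have e' := congrArg (rsM N h') (show rsM N h (valS A N x) = rsM N h (valS A N y) from e)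
    rwa [rsM_rsM, rsM_rsM, rsM_self, rsM_self] at e'
  · obtain ⟨x, hx⟩ := (valS_bijective A N).2 (rsM N h' y)
    refine ⟨x, ?_⟩
    show rsM N h (valS A N x) = y
    rw [hx]
    exact (rsM_rsM N h' h y).trans (rsM_self N _ y)

/-- Cochains of the system as Čech cochains. -/
noncomputable def cochainCompare (p : ℕ) :
    Cochain (secSys A N) p ≃+ CechLib.Cochain (cover A) (Coh.toAb N).obj p :=
  AddEquiv.ofBijective
    (AddMonoidHom.pi fun J : Fin (p + 1) → ULift.{u} (Fin (n + 1)) =>
      (rsV A N (cap_eq_Uof A J).le).comp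
        (Pi.evalAddMonoidHom (fun K : Fin (p + 1) → Fin (n + 1) => (secSys A N).obj (rng K)) (downT J)))
    ⟨fun c c' h => funext fun K =>
      (rsV_bijective A N (cap_eq_Uof A (ULift.up ∘ K)).le (cap_eq_Uof A (ULift.up ∘ K)).ge).1 (congrFun h (ULift.up ∘ K)),
    fun d => by
      choose x hx using fun K : Fin (p + 1) → Fin (n + 1) =>
        (rsV_bijective A N (cap_eq_Uof A (ULift.up ∘ K)).le (cap_eq_Uof A (ULift.up ∘ K)).ge).2 (d (ULift.up ∘ K))
      exact ⟨x, funext fun J => hx (downT J)⟩⟩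

lemma cochainCompare_apply (p : ℕ) (c : Cochain (secSys A N) p) (J : Fin (p + 1) → ULift.{u} (Fin (n + 1))) :
    cochainCompare A N p c J = rsV A N (cap_eq_Uof A J).le (c (downT J)) := rfl

lemma cochainCompare_dd (p : ℕ) (c : Cochain (secSys A N) p) :
    cochainCompare A N (p + 1) (dd (secSys A N) p c) = CechLib.dd (cover A) (Coh.toAb N).obj p (cochainCompare A N p c) := by
  funext J
  rw [cochainCompare_apply, dd_apply, CechLib.dd_apply, map_sum]
  refine Finset.sum_congr rfl fun k _ => ?_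
  rw [map_zsmul]
  congr 1
  exact (rsV_res A N _ _ _).trans (rs_rsV A N _ _ _).symm

/-- The components of the comparison. -/
noncomputable def cxCompareX (p : ℕ) :
    (forgetCx.obj (cx (secSys A N))).X p ≅ (CechLib.cx (cover A) (Coh.toAb N).obj).X p :=
  ((cochainCompare A N p).trans (CechLib.cochainEquiv (cover A) (Coh.toAb N).obj p).symm).toAddCommGrpIso

lemma cochainEquiv_cxCompareX (p : ℕ) (c : Cochain (secSys A N) p) :
    CechLib.cochainEquiv (cover A) (Coh.toAb N).obj p ((cxCompareX A N p).hom c) = cochainCompare A N p c :=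
  (CechLib.cochainEquiv (cover A) (Coh.toAb N).obj p).apply_symm_apply _

/-- The comparison of complexes. -/
noncomputable def cxCompare : forgetCx.obj (cx (secSys A N)) ≅ CechLib.cx (cover A) (Coh.toAb N).obj :=
  HomologicalComplex.Hom.isoOfComponents (cxCompareX A N) fun i j hij => by
    obtain rfl : i + 1 = j := hij
    refine ConcreteCategory.hom_ext _ _ fun c => ?_
    apply (CechLib.cochainEquiv (cover A) (Coh.toAb N).obj (i + 1)).injective
    refine (CechLib.ev_d _ _ i _).trans ?_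
    refine (congrArg (CechLib.dd _ _ i) (cochainEquiv_cxCompareX A N i c)).trans ?_
    refine Eq.trans ?_ (cochainEquiv_cxCompareX A N (i + 1) _).symm
    refine (cochainCompare_dd A N i c).symm.trans (congrArg (cochainCompare A N (i + 1)) ?_)
    exact (cx_d (L := secSys A N) i c).symm

/-- Homology of the system as Čech cohomology. -/
noncomputable def hCompare (p : ℕ) :
    (forget₂ (ModuleCat.{u} R) AddCommGrpCat.{u}).obj (H (secSys A N) p) ≅
      (CechLib.cx (cover A) (Coh.toAb N).obj).homology p :=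
  (((cx (secSys A N)).sc p).mapHomologyIso (forget₂ (ModuleCat.{u} R) AddCommGrpCat.{u})).symm ≪≫
    (HomologicalComplex.homologyFunctor _ _ p).mapIso (cxCompare A N)

section Global

variable (gT : R →+* Γ(Y, ⊤)) (hg : ∀ r, resO (le_top : Ω ≤ ⊤) (gT r) = A.cst r)

include hg in
lemma rsV_smul {s : Finset (Fin (n + 1))} {W : Y.Opens} (h : W ≤ Ω ⊓ C.Uof s) (r : R) (x : (secSys A N).obj s) :
    rsV A N h (r • x) = (Coh.smulAb N (gT r)).hom.app (op W) (rsV A N h x) :=
  ((congrArg (rsM N h) (valS_smul A N r x)).trans ((rsM_smul N h _ _).trans (congrArg (· • rsM N h (valS A N x))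
    ((A.resO_cstOn _ h r).trans ((congrArg (resO _) (hg r).symm).trans (resO_resO _ _ _))))) : _)

include hg in
lemma cxCompare_smul (r : R) :
    forgetCx.map (r • 𝟙 (cx (secSys A N))) ≫ (cxCompare A N).hom =
      (cxCompare A N).hom ≫ (cechComplexFunctor (cover A)).map (Coh.smulAb N (gT r)).hom := by
  ext p : 1
  refine ConcreteCategory.hom_ext _ _ fun c => ?_
  apply (CechLib.cochainEquiv (cover A) (Coh.toAb N).obj p).injective
  refine (cochainEquiv_cxCompareX A N p (HSMul.hSMul (α := R) (β := Cochain (secSys A N) p) r c)).trans ?_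
  funext J
  refine Eq.trans ?_ (CechLib.cochainEquiv_map (cover A) (Coh.smulAb N (gT r)).hom p _ J).symm
  refine Eq.trans ?_ (congrArg ((Coh.smulAb N (gT r)).hom.app (op (CechLib.cap (cover A) J)))
    (congrFun (cochainEquiv_cxCompareX A N p c) J).symm)
  exact rsV_smul A N gT hg _ r _

include hg in
lemma hCompare_smul (p : ℕ) (r : R) (x : H (secSys A N) p) :
    (hCompare A N p).hom (r • x) = hMap (cover A) (Coh.smulAb N (gT r)) p ((hCompare A N p).hom x) := by
  have h1 : (forget₂ (ModuleCat.{u} R) AddCommGrpCat.{u}).map (HomologicalComplex.homologyMap (r • 𝟙 (cx (secSys A N))) p) ≫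
      (hCompare A N p).hom = (hCompare A N p).hom ≫ hMap (cover A) (Coh.smulAb N (gT r)) p := by
    refine (Category.assoc _ _ _).symm.trans (((congrArg (· ≫ HomologicalComplex.homologyMap (cxCompare A N).hom p)
      (map_homologyMap_comp_inv ((HomologicalComplex.shortComplexFunctor _ _ p).map (r • 𝟙 (cx (secSys A N)))))).trans
        (Category.assoc _ _ _)).trans ?_)
    refine Eq.trans (congrArg (_ ≫ ·) ?_) (Category.assoc _ _ _).symm
    exact (HomologicalComplex.homologyMap_comp (forgetCx.map (r • 𝟙 (cx (secSys A N)))) (cxCompare A N).hom p).symm.trans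
      ((congrArg (fun φ => HomologicalComplex.homologyMap φ p) (cxCompare_smul A N gT hg r)).trans
        (HomologicalComplex.homologyMap_comp _ _ p))
  have h4 := ConcreteCategory.congr_hom h1 x
  rw [homologyMap_smul_id] at h4
  exact h4

include hg in
/-- Cohomology over `Ω` is computed by the system of sections, linearly. -/
theorem exists_HU_equiv [Coh.IsQCoh N] (p : ℕ) :
    ∃ e : H (secSys A N) p ≃+ HU (Coh.toAb N) p Ω, ∀ (r : R) x,
      e (r • x) = (e x).comp (Abelian.Ext.mk₀ (Coh.smulAb N (gT r))) (add_zero p) := by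
  obtain ⟨e, he⟩ := exists_homology_equiv_natural (cover A) p (Coh.toAb N) (acyc_cover A N)
  have hcast : ∀ {V W : Y.Opens}, V = W → ∃ c : HU (Coh.toAb N) p V ≃+ HU (Coh.toAb N) p W,
      ∀ (g : Coh.toAb N ⟶ Coh.toAb N) (y : HU (Coh.toAb N) p V),
        c (y.comp (Abelian.Ext.mk₀ g) (add_zero p)) = (c y).comp (Abelian.Ext.mk₀ g) (add_zero p) := by
    rintro V _ rfl
    exact ⟨AddEquiv.refl _, fun _ _ => rfl⟩
  obtain ⟨c, hc⟩ := hcast (iSup_cover A)
  refine ⟨(hCompare A N p).addCommGroupIsoToAddEquiv.trans (e.trans c), fun r x => ?_⟩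
  show c (e ((hCompare A N p).hom (r • x))) = (c (e ((hCompare A N p).hom x))).comp _ _
  rw [hCompare_smul A N gT hg, he, hc]

end Global

/-- Cohomology over `Ω` is computed by the system of sections. -/
theorem nonempty_HU_equiv [Coh.IsQCoh N] (p : ℕ) : Nonempty (H (secSys A N) p ≃+ HU (Coh.toAb N) p Ω) := by
  obtain ⟨e, -⟩ := exists_homology_equiv_natural (cover A) p (Coh.toAb N) (acyc_cover A N)
  have hcast : ∀ {V W : Y.Opens}, V = W → Nonempty (HU (Coh.toAb N) p V ≃+ HU (Coh.toAb N) p W) := by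
    rintro V _ rfl
    exact ⟨AddEquiv.refl _⟩
  obtain ⟨c⟩ := hcast (iSup_cover A)
  exact ⟨(hCompare A N p).addCommGroupIsoToAddEquiv.trans (e.trans c)⟩

/-- Restriction of sections, linearly over the base. -/
noncomputable def resR {V W : Y.Opens} {hV : V ≤ Ω} {hW : W ≤ Ω} (h : W ≤ V) : SecR A N V hV →ₗ[R] SecR A N W hW where
  toFun x := (toS A N).symm (rsM N h (toS A N x))
  map_add' x y := by simp
  map_smul' r x := by
    apply (toS A N).injective
    rw [RingHom.id_apply, AddEquiv.apply_symm_apply, toS_smul, toS_smul, AddEquiv.apply_symm_apply, rsM_smul, A.resO_cstOn]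

/-- Restriction of sections over `Ω` to the system. -/
noncomputable def toCochain : SecR A N Ω le_rfl →ₗ[R] Cochain (secSys A N) 0 :=
  LinearMap.pi fun J => (resR A N (inf_le_left : Ω ⊓ C.Uof (rng J) ≤ Ω) :
    SecR A N Ω le_rfl →ₗ[R] SecR A N (Ω ⊓ C.Uof (rng J)) inf_le_left)

lemma dd_toCochain (x : SecR A N Ω le_rfl) : dd (secSys A N) 0 (toCochain A N x) = 0 := by
  funext J
  rw [dd_apply, Fin.sum_univ_two]
  have hr : ∀ (K : Fin 1 → Fin (n + 1)) (h : rng K ⊆ rng J), res (secSys A N) h (toCochain A N x K) =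
      (resR A N (inf_le_left : Ω ⊓ C.Uof (rng J) ≤ Ω) x : SecR A N (Ω ⊓ C.Uof (rng J)) inf_le_left) :=
    fun K h => (rsM_rsM N _ _ _ : _)
  rw [hr, hr]
  simp only [Fin.val_zero, pow_zero, Fin.val_one, pow_one]
  exact (congrArg₂ (· + ·) (one_zsmul _) (neg_one_zsmul _)).trans (add_neg_cancel (G := (secSys A N).obj (rng J)) _)

variable (M : Y.Modules) [Coh.IsQCoh M]

include A in
lemma finite_H_tw [IsNoetherianRing R] (hM : CohB1.IsFT M) (d : ℤ) (p : ℕ) : Module.Finite R (H (secSys A (tw M C d)) p) := by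
  obtain ⟨r, e, g, hg, hgen⟩ := exists_generators A M hM
  have := GradedCechLib.finite_H (genGrading A M e g) (isFG_genGrading A M e g) d p
  exact Module.Finite.equiv
    (GradedCechLib.hIsoOfBijective (genSys A M e g hg d) (genSys_bijective A M e g hg hgen d) p).toLinearEquiv

include A in
/-- **Serre vanishing over an atlas.** -/
theorem exists_subsingleton_HU_tw [IsNoetherianRing R] (hC : ⨆ i, C.U i = ⊤) (hM : CohB1.IsFT M) :
    ∃ d₀ : ℤ, ∀ d, d₀ ≤ d → ∀ p : ℕ, Subsingleton (HU (Coh.toAb (tw M C d)) (p + 1) Ω) := by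
  obtain ⟨r, e, g, hg, hgen⟩ := exists_generators A M hM
  choose d₁ hd₁ using fun p : Fin (n + 1) => GradedCechLib.exists_isZero_H (genGrading A M e g) (isFG_genGrading A M e g) (p : ℕ)
  refine ⟨∑ p, |d₁ p|, fun d hd p => ?_⟩
  have := isQCoh_tw M C d hC
  obtain ⟨f⟩ := nonempty_HU_equiv A (tw M C d) (p + 1)
  suffices h : IsZero (H (secSys A (tw M C d)) (p + 1)) by
    have := ModuleCat.subsingleton_of_isZero h
    exact f.symm.injective.subsingleton
  refine IsZero.of_iso ?_
    (GradedCechLib.hIsoOfBijective (genSys A M e g hg d) (genSys_bijective A M e g hg hgen d) (p + 1)).symm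
  by_cases hp : p < n + 1
  · refine hd₁ ⟨p, hp⟩ d ?_
    have h1 : |d₁ ⟨p, hp⟩| ≤ ∑ p, |d₁ p| := Finset.single_le_sum (f := fun p => |d₁ p|) (fun _ _ => abs_nonneg _) (Finset.mem_univ _)
    have h2 := le_abs_self (d₁ ⟨p, hp⟩)
    omega
  · exact GradedCechLib.isZero_H_of_card_le _ d (p + 1) (by simp; omega)

include A in
/-- **Sections of twists over `Ω` form a finite module over the base.** -/
theorem finite_secR [IsNoetherianRing R] (hM : CohB1.IsFT M) (d : ℤ) :
    Module.Finite R (SecR A (tw M C d) Ω le_rfl) := by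
  let L := secSys A (tw M C d)
  have := finite_H_tw A M hM d 0
  let ρ : SecR A (tw M C d) Ω le_rfl →ₗ[R] Cochain L 0 := toCochain A (tw M C d)
  have hρd : ModuleCat.ofHom ρ ≫ (cx L).d 0 1 = 0 :=
    ModuleCat.hom_ext (LinearMap.ext fun x => (cx_d (L := L) 0 (ρ x)).trans (dd_toCochain A (tw M C d) x))
  let φ : SecR A (tw M C d) Ω le_rfl →ₗ[R] H L 0 :=
    ((cx L).liftCycles (A := ModuleCat.of R (SecR A (tw M C d) Ω le_rfl)) (ModuleCat.ofHom ρ) 1 (by simp) hρd ≫
      (cx L).isoHomologyπ₀.hom).hom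
  refine Module.Finite.of_injective φ fun x y e => ?_
  have e1 : ((cx L).liftCycles (A := ModuleCat.of R (SecR A (tw M C d) Ω le_rfl)) (ModuleCat.ofHom ρ) 1 (by simp) hρd).hom x =
      ((cx L).liftCycles (A := ModuleCat.of R (SecR A (tw M C d) Ω le_rfl)) (ModuleCat.ofHom ρ) 1 (by simp) hρd).hom y :=
    (ModuleCat.mono_iff_injective ((cx L).isoHomologyπ₀.hom)).1 inferInstance e
  have hl : ∀ z, ((cx L).iCycles 0).hom (((cx L).liftCycles (A := ModuleCat.of R (SecR A (tw M C d) Ω le_rfl))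
      (ModuleCat.ofHom ρ) 1 (by simp) hρd).hom z) = ρ z :=
    fun z => ConcreteCategory.congr_hom ((cx L).liftCycles_i (ModuleCat.ofHom ρ) 1 (by simp) hρd) z
  have e2 : ρ x = ρ y := (hl x).symm.trans ((congrArg (((cx L).iCycles 0).hom) e1).trans (hl y))
  apply (toS A (tw M C d) (h := (le_rfl : Ω ≤ Ω))).injective
  refine TopCat.Sheaf.eq_of_locally_eq' (Coh.toAb (tw M C d) : TopCat.Sheaf AddCommGrpCat _)
    (fun i => Ω ⊓ C.Uof (rng fun _ : Fin 1 => i)) Ω (fun i => homOfLE inf_le_left) (fun p hp => ?_) _ _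
    fun i => congrFun e2 fun _ => i
  obtain ⟨i, hi⟩ := Opens.mem_iSup.1 (A.le_iSup hp)
  exact Opens.mem_iSup.2 ⟨i, hp, by simpa [Coords.Uof, rng] using hi⟩

end AtlasCoh
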