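import Groth.Agent.AtlasCohLib.Tw
import Groth.Agent.GradedCechLib.Finite

/-!
# The graded module of a sheaf on an atlas, and its fractions as twisted sections
-/

universe u

open CategoryTheory AlgebraicGeometry Opposite TopologicalSpace MvPolynomial

namespace AtlasCoh

open GradedCechLib (Grading Loc locPiece locSys frac pw transLin transLin_mkLinearMap xs xs_mul_sdiff Sys)

variable {Y : Scheme.{u}} {n : ℕ} {C : Coords n Y} {Ω : Y.Opens} {R : Type u} [CommRing R]

/-- The polynomial ring. -/
abbrev Poly (n : ℕ) (R : Type u) [CommRing R] : Type u := MvPolynomial (Fin (n + 1)) R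

/-- Sections on a part of a chart, as a module over the polynomial ring. -/
def Sec (_A : Atlas C Ω R) (M : Y.Modules) (i : Fin (n + 1)) (W : Y.Opens) (_h : W ≤ Ω ⊓ C.U i) : Type u := Γ(M, W)

variable (A : Atlas C Ω R) (M : Y.Modules) {i : Fin (n + 1)} {W : Y.Opens} {hW : W ≤ Ω ⊓ C.U i}

noncomputable instance : AddCommGroup (Sec A M i W hW) := inferInstanceAs (AddCommGroup Γ(M, W))

/-- As plain sections. -/
noncomputable def toΓ : Sec A M i W hW ≃+ Γ(M, W) := AddEquiv.refl _

noncomputable instance secModule : Module (Poly n R) (Sec A M i W hW) :=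
  Module.compHom Γ(M, W) ((resO hW).comp (A.deh i))

noncomputable instance secModuleR : Module R (Sec A M i W hW) :=
  Module.compHom Γ(M, W) (A.cstOn (hW.trans inf_le_left))

lemma toΓ_smul (p : Poly n R) (x : Sec A M i W hW) : toΓ A M (p • x) = resO hW (A.deh i p) • toΓ A M x := rfl

lemma toΓ_smulR (r : R) (x : Sec A M i W hW) : toΓ A M (r • x) = A.cstOn (hW.trans inf_le_left) r • toΓ A M x := rfl

instance secTower : IsScalarTower R (Poly n R) (Sec A M i W hW) :=
  IsScalarTower.of_algebraMap_smul fun r x => by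
    apply (toΓ A M).injective
    rw [toΓ_smul, toΓ_smulR, MvPolynomial.algebraMap_eq, A.deh_C, A.resO_cstOn]

/-- Families of sections on the charts. -/
abbrev Fam : Type u := ∀ i : Fin (n + 1), Sec A M i (Ω ⊓ C.U i) le_rfl

/-- Compatibility with a twist. -/
def FamCompat (d : ℤ) (a : Fam A M) : Prop :=
  ∀ (i j : Fin (n + 1)) (W : Y.Opens) (hi : W ≤ Ω ⊓ C.U i) (hj : W ≤ Ω ⊓ C.U j),
    rsM M hi (toΓ A M (a i)) = C.u d i j (hi.trans inf_le_right) (hj.trans inf_le_right) • rsM M hj (toΓ A M (a j))

/-- The sections of the twists, as families. -/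
noncomputable def famGrading : Grading R (Fin (n + 1)) (Fam A M) where
  piece d :=
    { carrier := {a | FamCompat A M d a}
      zero_mem' := fun i j W hi hj => by simp
      add_mem' := fun {a b} ha hb i j W hi hj => by
        simp only [Pi.add_apply, map_add, ha i j W hi hj, hb i j W hi hj, smul_add]
      smul_mem' := fun r a ha i j W hi hj => by
        rw [Pi.smul_apply, Pi.smul_apply, toΓ_smulR, toΓ_smulR, rsM_smul, rsM_smul, A.resO_cstOn, A.resO_cstOn,
          ha i j W hi hj, smul_comm] }
  X_smul_mem k d a ha i j W hi hj := by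
    rw [Pi.smul_apply, Pi.smul_apply, toΓ_smul, toΓ_smul, resO_self, resO_self, rsM_smul, rsM_smul, ha i j W hi hj,
      A.resO_deh_X i j k hi hj, smul_smul, smul_smul, C.u_add,
      show C.u 1 i j (hi.trans inf_le_right) (hj.trans inf_le_right) = resO (hi.trans inf_le_right) (C.coord i j) from
        (C.u_natCast 1 i j _ _).trans (pow_one _), A.deh_X i j, resO_resO]
    congr 1
    ring

/-- The part of a chart over an intersection. -/
noncomputable abbrev part (s : Finset (Fin (n + 1))) (i : Fin (n + 1)) (_A : Atlas C Ω R) : Y.Opens :=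
  C.U i ⊓ (Ω ⊓ C.Uof s)

lemma part_le (s : Finset (Fin (n + 1))) (i : Fin (n + 1)) : part s i A ≤ Ω ⊓ C.U i :=
  le_inf (inf_le_right.trans inf_le_left) inf_le_left

lemma part_le_Uof (s : Finset (Fin (n + 1))) (i : Fin (n + 1)) : part s i A ≤ C.Uof s := inf_le_right.trans inf_le_right

lemma part_anti {s t : Finset (Fin (n + 1))} (h : s ⊆ t) (i : Fin (n + 1)) : part t i A ≤ part s i A :=
  inf_le_inf_left _ (inf_le_inf_left _ (Finset.inf_mono h))

/-- Families of chart sections over an intersection. -/
abbrev SecFam (s : Finset (Fin (n + 1))) : Type u := ∀ i : Fin (n + 1), Sec A M i (part s i A) (part_le A s i)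

/-- Restriction of families. -/
noncomputable def famRes (s : Finset (Fin (n + 1))) : Fam A M →ₗ[Poly n R] SecFam A M s :=
  LinearMap.pi fun i =>
    { toFun := fun a => (toΓ A M).symm (rsM M (part_le A s i) (toΓ A M (a i)))
      map_add' := fun a b => by simp
      map_smul' := fun p a => by
        apply (toΓ A M).injective
        rw [RingHom.id_apply, toΓ_smul, AddEquiv.apply_symm_apply, AddEquiv.apply_symm_apply, Pi.smul_apply, toΓ_smul,
          rsM_smul, resO_resO] }

lemma isUnit_secFam (s : Finset (Fin (n + 1))) (x : Submonoid.powers (xs R s)) :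
    IsUnit (algebraMap (Poly n R) (Module.End (Poly n R) (SecFam A M s)) x) := by
  obtain ⟨_, m, rfl⟩ := x
  rw [Module.End.isUnit_iff]
  have key : ∀ i : Fin (n + 1), ∃ u : (Γ(Y, part s i A))ˣ,
      (u : Γ(Y, part s i A)) = resO (part_le A s i) (A.deh i (xs R s ^ m)) := fun i => by
    obtain ⟨u, hu⟩ := (A.isUnit_deh_xs i (part_le A s i) (part_le_Uof A s i)).pow m
    exact ⟨u, by rw [hu, map_pow, map_pow]⟩
  choose u hu using key
  refine Function.bijective_iff_has_inverse.2
    ⟨fun f i => (toΓ A M).symm ((↑(u i)⁻¹ : Γ(Y, part s i A)) • toΓ A M (f i)),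
      fun f => funext fun i => (toΓ A M).injective ?_, fun f => funext fun i => (toΓ A M).injective ?_⟩
  · show (↑(u i)⁻¹ : Γ(Y, part s i A)) • toΓ A M ((xs R s ^ m) • f i) = toΓ A M (f i)
    rw [toΓ_smul, ← hu, smul_smul, Units.inv_mul, one_smul]
  · show toΓ A M ((xs R s ^ m) • ((toΓ A M).symm ((↑(u i)⁻¹ : Γ(Y, part s i A)) • toΓ A M (f i)) :
      Sec A M i (part s i A) (part_le A s i))) = toΓ A M (f i)
    rw [toΓ_smul, AddEquiv.apply_symm_apply, ← hu, smul_smul, Units.mul_inv, one_smul]

/-- Fractions as sections. -/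
noncomputable def fracSec (s : Finset (Fin (n + 1))) : Loc R (Fam A M) s →ₗ[Poly n R] SecFam A M s :=
  LocalizedModule.lift _ (famRes A M s) (isUnit_secFam A M s)

lemma fracSec_mk (s : Finset (Fin (n + 1))) (y : Fam A M) :
    fracSec A M s (LocalizedModule.mkLinearMap (Submonoid.powers (xs R s)) (Fam A M) y) = famRes A M s y :=
  LinearMap.congr_fun (LocalizedModule.lift_comp _ _ (isUnit_secFam A M s)) y

lemma xs_pow_fracSec (s : Finset (Fin (n + 1))) (y : Fam A M) (m : ℕ) (i : Fin (n + 1)) :
    resO (part_le A s i) (A.deh i (xs R s ^ m)) • toΓ A M (fracSec A M s (frac s y m) i) =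
      rsM M (part_le A s i) (toΓ A M (y i)) := by
  rw [← toΓ_smul, ← Pi.smul_apply, ← map_smul]
  rw [show xs R s ^ m • frac (R := R) s y m = LocalizedModule.mkLinearMap _ (Fam A M) y by
    rw [frac, LocalizedModule.smul'_mk]; exact LocalizedModule.mk_cancel (pw R s m) y, fracSec_mk]
  rfl

lemma fracSec_compat (d : ℤ) (s : Finset (Fin (n + 1))) (z : Loc R (Fam A M) s) (hz : z ∈ locPiece (famGrading A M) d s) :
    TwCompat M C d (Ω ⊓ C.Uof s) fun i => toΓ A M (fracSec A M s z i) := by
  obtain ⟨m, y, hy, rfl⟩ := hz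
  intro i j W hi hj
  have hWi : W ≤ Ω ⊓ C.U i := hi.trans (part_le A s i)
  have hWj : W ≤ Ω ⊓ C.U j := hj.trans (part_le A s j)
  apply ((A.isUnit_deh_xs i hWi (hi.trans (part_le_Uof A s i))).pow m).smul_left_cancel.1
  have e1 := congrArg (rsM M hi) (xs_pow_fracSec A M s y m i)
  rw [rsM_smul, rsM_rsM, resO_resO] at e1
  have e2 := congrArg (rsM M hj) (xs_pow_fracSec A M s y m j)
  rw [rsM_smul, rsM_rsM, resO_resO] at e2
  have e3 : resO hWi (A.deh i (xs R s ^ m)) = resO hWj (A.deh j (xs R s ^ m)) *
      C.u ((m : ℤ) * s.card) i j (hWi.trans inf_le_right) (hWj.trans inf_le_right) := by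
    rw [show (m : ℤ) * s.card = ((s.card * m : ℕ) : ℤ) by push_cast; ring, C.u_natCast, pow_mul,
      map_pow, map_pow, map_pow, map_pow, ← mul_pow]
    congr 1
    rw [xs, map_prod, map_prod, map_prod, map_prod, ← Finset.prod_const, ← Finset.prod_mul_distrib]
    refine Finset.prod_congr rfl fun k _ => ?_
    rw [A.resO_deh_X i j k hWi hWj, A.deh_X i j, resO_resO]
  rw [← map_pow, ← map_pow, e1, hy i j W hWi hWj, e3, smul_smul, ← e2, smul_smul, C.u_add]
  congr 1
  ring

/-- Sections over an open of `Ω`, as a module over the base ring. -/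
def SecR (_A : Atlas C Ω R) (N : Y.Modules) (V : Y.Opens) (_h : V ≤ Ω) : Type u := Γ(N, V)

noncomputable instance (N : Y.Modules) (V : Y.Opens) (h : V ≤ Ω) : AddCommGroup (SecR A N V h) :=
  inferInstanceAs (AddCommGroup Γ(N, V))

noncomputable instance secRModule (N : Y.Modules) (V : Y.Opens) (h : V ≤ Ω) : Module R (SecR A N V h) :=
  Module.compHom Γ(N, V) (A.cstOn h)

/-- As plain sections. -/
noncomputable def toS (N : Y.Modules) {V : Y.Opens} {h : V ≤ Ω} : SecR A N V h ≃+ Γ(N, V) := AddEquiv.refl _

lemma toS_smul (N : Y.Modules) {V : Y.Opens} {h : V ≤ Ω} (r : R) (x : SecR A N V h) :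
    toS A N (r • x) = A.cstOn h r • toS A N x := rfl

/-- The system of sections of a module on the intersections. -/
noncomputable def secSys (N : Y.Modules) : Sys R (Fin (n + 1)) where
  obj s := ModuleCat.of R (SecR A N (Ω ⊓ C.Uof s) inf_le_left)
  map {s t} f :=
    ModuleCat.ofHom
      { toFun := fun x => (toS A N).symm (rsM N (inf_le_inf_left _ (Finset.inf_mono (leOfHom f))) (toS A N x))
        map_add' := fun x y => by simp
        map_smul' := fun r x => by
          apply (toS A N).injective
          rw [RingHom.id_apply, AddEquiv.apply_symm_apply, toS_smul, toS_smul, AddEquiv.apply_symm_apply, rsM_smul,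
            A.resO_cstOn] }
  map_id s := ModuleCat.hom_ext (LinearMap.ext fun x => rsM_self N _ x)
  map_comp f g := ModuleCat.hom_ext (LinearMap.ext fun x => (rsM_rsM N _ _ x).symm)

lemma fracSec_trans {s t : Finset (Fin (n + 1))} (h : s ⊆ t) (z : Loc R (Fam A M) s) (i : Fin (n + 1)) :
    toΓ A M (fracSec A M t (transLin h z) i) = rsM M (part_anti A h i) (toΓ A M (fracSec A M s z i)) := by
  let restr : SecFam A M s →ₗ[Poly n R] SecFam A M t := LinearMap.pi fun i =>
    { toFun := fun f => (toΓ A M).symm (rsM M (part_anti A h i) (toΓ A M (f i)))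
      map_add' := fun a b => by simp
      map_smul' := fun p f => by
        apply (toΓ A M).injective
        rw [RingHom.id_apply, toΓ_smul, AddEquiv.apply_symm_apply, AddEquiv.apply_symm_apply, Pi.smul_apply, toΓ_smul,
          rsM_smul, resO_resO] }
  have hunit : ∀ x : Submonoid.powers (xs R s), IsUnit (algebraMap (Poly n R) (Module.End (Poly n R) (SecFam A M t)) x) := by
    rintro ⟨_, m, rfl⟩
    have h1 := isUnit_secFam A M t (pw R t m)
    simp only [pw] at h1 ⊢
    rw [show xs R t ^ m = xs R s ^ m * xs R (t \ s) ^ m by rw [← mul_pow, xs_mul_sdiff h], map_mul] at h1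
    exact (((Commute.all (xs R s ^ m) (xs R (t \ s) ^ m)).map
      (algebraMap (Poly n R) (Module.End (Poly n R) (SecFam A M t)))).isUnit_mul_iff.1 h1).1
  have e : (fracSec A M t).comp (transLin h) = restr.comp (fracSec A M s) := by
    refine IsLocalizedModule.ext (Submonoid.powers (xs R s)) (LocalizedModule.mkLinearMap _ (Fam A M)) hunit ?_
    refine LinearMap.ext fun y => ?_
    rw [LinearMap.comp_apply, LinearMap.comp_apply, LinearMap.comp_apply, LinearMap.comp_apply, transLin_mkLinearMap,
      fracSec_mk, fracSec_mk]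
    funext k
    exact (toΓ A M).injective (rsM_rsM M _ _ _).symm
  exact congrArg (fun f => toΓ A M (f i)) (LinearMap.congr_fun e z)

/-- A fraction as a twisted section. -/
noncomputable def glue (d : ℤ) (s : Finset (Fin (n + 1))) (z : locPiece (famGrading A M) d s) : Γ(tw M C d, Ω ⊓ C.Uof s) :=
  (twSec M C d _).symm ⟨fun i => toΓ A M (fracSec A M s z.1 i), fracSec_compat A M d s z.1 z.2⟩

lemma twComp_glue (d : ℤ) (s : Finset (Fin (n + 1))) (z : locPiece (famGrading A M) d s) (i : Fin (n + 1)) :
    twComp i (twSec M C d _ (glue A M d s z)) = toΓ A M (fracSec A M s z.1 i) := rfl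

/-- Fractions as sections of the twist. -/
noncomputable def glueSys (d : ℤ) : locSys (famGrading A M) d ⟶ secSys A (tw M C d) where
  app s := show ModuleCat.of R (locPiece (famGrading A M) d s) ⟶ ModuleCat.of R (SecR A (tw M C d) (Ω ⊓ C.Uof s) inf_le_left) from
    ModuleCat.ofHom
    { toFun := fun z => (toS A (tw M C d)).symm (glue A M d s z)
      map_add' := fun x y => by
        apply ((toS A (tw M C d)).trans (twSec M C d _)).injective
        refine twAdd_ext fun i => ?_
        simp only [AddEquiv.trans_apply, map_add, AddEquiv.apply_symm_apply, twComp_glue, Submodule.coe_add, Pi.add_apply]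
      map_smul' := fun r x => by
        apply ((toS A (tw M C d)).trans (twSec M C d _)).injective
        refine twAdd_ext fun i => ?_
        rw [RingHom.id_apply, AddEquiv.trans_apply, AddEquiv.trans_apply, toS_smul, AddEquiv.apply_symm_apply,
          AddEquiv.apply_symm_apply, twSec_smul, twComp_smul, twComp_glue, twComp_glue, Submodule.coe_smul,
          LinearMap.map_smul_of_tower, Pi.smul_apply, toΓ_smulR, A.resO_cstOn] }
  naturality {s t} f := ModuleCat.hom_ext (LinearMap.ext fun (z : locPiece (famGrading A M) d s) => by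
    apply ((toS A (tw M C d) (h := (inf_le_left : Ω ⊓ C.Uof t ≤ Ω))).trans (twSec M C d _)).injective
    refine twAdd_ext fun i => ?_
    show toΓ A M (fracSec A M t (transLin (leOfHom f) z.1) i) = rsM M _ (toΓ A M (fracSec A M s z.1 i))
    rw [fracSec_trans])

end AtlasCoh
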