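import Groth.Agent.AtlasCohLib.Frac

/-!
# Generators of the graded module, and bijectivity of fractions → twisted sections
-/

universe u

open CategoryTheory AlgebraicGeometry Opposite TopologicalSpace MvPolynomial

namespace AtlasCoh

open GradedCechLib (Grading Loc locPiece locSys frac pw xs genMap freeGrading IsFG IsHom sysMap locMap locMap_frac
  frac_eq_frac_iff pow_xs_smul_mem genMap_isHom)

variable {Y : Scheme.{u}} {n : ℕ} {C : Coords n Y} {Ω : Y.Opens} {R : Type u} [CommRing R] (A : Atlas C Ω R)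
  (M : Y.Modules)

/-- The submodule of twisted sections generated by given ones. -/
noncomputable def genGrading {κ : Type} [Fintype κ] (e : κ → ℤ) (g : κ → Fam A M) : Grading R (Fin (n + 1)) (Fam A M) where
  piece d := ((freeGrading R κ e).piece d).map ((genMap (R := R) (ι := Fin (n + 1)) g).restrictScalars R)
  X_smul_mem i d y hy := by
    obtain ⟨f, hf, rfl⟩ := hy
    exact ⟨(X i : Poly n R) • f, (freeGrading R κ e).X_smul_mem i d f hf, map_smul (genMap (R := R) g) (X i : Poly n R) f⟩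

lemma isFG_genGrading {r : ℕ} (e : Fin r → ℤ) (g : Fin r → Fam A M) : IsFG (genGrading A M e g) := by
  classical
  refine ⟨r, e, g, fun k => ⟨Pi.single k 1, fun l a h => ?_, ?_⟩, fun d y hy => hy⟩
  · rcases eq_or_ne l k with rfl | hl
    · rw [Pi.single_eq_same, coeff_one] at h
      split_ifs at h with h0
      · simp [← h0]
      · exact absurd rfl h
    · rw [Pi.single_eq_of_ne hl, coeff_zero] at h
      exact absurd rfl h
  · show genMap (R := R) (ι := Fin (n + 1)) g (Pi.single k 1) = g k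
    rw [genMap, Fintype.linearCombination_apply_single, one_smul]

lemma genGrading_le {κ : Type} [Fintype κ] (e : κ → ℤ) (g : κ → Fam A M)
    (hg : ∀ k, g k ∈ (famGrading A M).piece (-e k)) : IsHom (genGrading A M e g) (famGrading A M) LinearMap.id := by
  rintro d _ ⟨f, hf, rfl⟩
  exact genMap_isHom (famGrading A M) e g hg d f hf

/-- The comparison with twisted sections. -/
noncomputable def genSys {κ : Type} [Fintype κ] (e : κ → ℤ) (g : κ → Fam A M) (hg : ∀ k, g k ∈ (famGrading A M).piece (-e k))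
    (d : ℤ) : locSys (genGrading A M e g) d ⟶ secSys A (tw M C d) :=
  sysMap (genGrading A M e g) (famGrading A M) LinearMap.id (genGrading_le A M e g hg) d ≫ glueSys A M d

include A in
/-- Homogenisation at a coordinate. -/
lemma exists_homogenization (i : Fin (n + 1)) (p : Poly n R) : ∃ B : ℤ, ∀ D : ℤ, B ≤ D →
    ∃ q : Poly n R, (∀ a, q.coeff a ≠ 0 → ∑ j, (a j : ℤ) = D) ∧ A.deh i q = A.deh i p := by
  induction p using MvPolynomial.induction_on' with
  | monomial a r =>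
    refine ⟨∑ j, (a j : ℤ), fun D hD => ⟨monomial (Finsupp.single i (D - ∑ j, (a j : ℤ)).toNat + a) r, fun b hb => ?_, ?_⟩⟩
    · rw [coeff_monomial] at hb
      split_ifs at hb with h
      · rw [← h]
        simp only [Finsupp.add_apply, Nat.cast_add, Finset.sum_add_distrib]
        simp [Finsupp.single_apply]
        omega
      · exact absurd rfl hb
    · rw [show monomial (Finsupp.single i (D - ∑ j, (a j : ℤ)).toNat + a) r =
        X i ^ (D - ∑ j, (a j : ℤ)).toNat * monomial a r by rw [X_pow_eq_monomial, monomial_mul, one_mul], map_mul, map_pow,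
        A.deh_X_self, one_pow, one_mul]
  | add p q hp hq =>
    obtain ⟨B, hB⟩ := hp
    obtain ⟨B', hB'⟩ := hq
    refine ⟨max B B', fun D hD => ?_⟩
    obtain ⟨p', hp', ep⟩ := hB D (le_trans (le_max_left _ _) hD)
    obtain ⟨q', hq', eq⟩ := hB' D (le_trans (le_max_right _ _) hD)
    refine ⟨p' + q', fun a ha => ?_, by rw [map_add, map_add, ep, eq]⟩
    by_cases h : p'.coeff a = 0
    · exact hq' a fun h' => ha (by rw [coeff_add, h, h', add_zero])
    · exact hp' a h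

variable [Coh.IsQCoh M]

lemma exists_extend_chart {V W : Y.Opens} (hV : IsAffineOpen V) (f : Γ(Y, V))
    (hW : W ≤ V) (e : Y.basicOpen f = W) (σ : Γ(M, W)) :
    ∃ (k : ℕ) (t : Γ(M, V)), rsM M hW t = resO hW f ^ k • σ := by
  subst e
  exact (QCohLib.localizingAt_of_isQCoh hV M f).exists_extend σ

lemma eq_zero_chart {V W : Y.Opens} (hV : IsAffineOpen V) (f : Γ(Y, V))
    (hW : W ≤ V) (e : Y.basicOpen f = W) (t : Γ(M, V)) (ht : rsM M hW t = 0) :
    ∃ k : ℕ, f ^ k • t = 0 := by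
  subst e
  obtain ⟨k, hk⟩ := (QCohLib.localizingAt_of_isQCoh hV M f).eq_zero t ht
  have hk' : resO (le_refl V) f ^ k • t = 0 := hk
  rw [resO_self] at hk'
  exact ⟨k, hk'⟩

/-- **Every chart section is the value of a twisted section over `Ω`.** -/
theorem exists_fam (i : Fin (n + 1)) (σ : Γ(M, Ω ⊓ C.U i)) :
    ∃ (d : ℕ) (a : Fam A M), a ∈ (famGrading A M).piece d ∧ toΓ A M (a i) = σ := by
  choose m t ht using fun j => exists_extend_chart M (A.isAffineOpen_chart j) (A.deh j (X i))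
    (inf_le_left : Ω ⊓ C.U j ⊓ C.U i ≤ Ω ⊓ C.U j) (A.basicOpen_deh_X j i)
    (rsM M (le_inf (inf_le_left.trans inf_le_left) inf_le_right : Ω ⊓ C.U j ⊓ C.U i ≤ Ω ⊓ C.U i) σ)
  obtain ⟨M0, hM0⟩ : ∃ M0, ∀ j, m j ≤ M0 := ⟨Finset.univ.sup m, fun j => Finset.le_sup (Finset.mem_univ j)⟩
  obtain ⟨a0, h0⟩ : ∃ a0 : ∀ j, Γ(M, Ω ⊓ C.U j), ∀ j (W : Y.Opens) (hj : W ≤ Ω ⊓ C.U j) (hi : W ≤ Ω ⊓ C.U i),
      rsM M hj (a0 j) = resO hj (A.deh j (X i)) ^ M0 • rsM M hi σ :=
    ⟨fun j => A.deh j (X i) ^ (M0 - m j) • t j, fun j W hj hi => by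
      have h1 := congrArg (rsM M (le_inf hj (hi.trans inf_le_right) : W ≤ Ω ⊓ C.U j ⊓ C.U i)) (ht j)
      rw [rsM_rsM, rsM_smul, rsM_rsM, map_pow, resO_resO] at h1
      rw [rsM_smul, map_pow, h1, smul_smul, ← pow_add, Nat.sub_add_cancel (hM0 j)]⟩
  have hle : ∀ j l, Ω ⊓ C.U j ⊓ C.U l ≤ Ω ⊓ C.U l := fun j l => le_inf (inf_le_left.trans inf_le_left) inf_le_right
  have hD : ∀ j l, ∃ k, resO (inf_le_left : Ω ⊓ C.U j ⊓ C.U l ≤ Ω ⊓ C.U j) (A.deh j (X i)) ^ k •
      (rsM M (inf_le_left : Ω ⊓ C.U j ⊓ C.U l ≤ Ω ⊓ C.U j) (a0 j) -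
        resO (inf_le_left : Ω ⊓ C.U j ⊓ C.U l ≤ Ω ⊓ C.U j) (A.deh j (X l)) ^ M0 • rsM M (hle j l) (a0 l)) = 0 := fun j l => by
    refine eq_zero_chart M (A.isAffineOpen_inf j l) _ inf_le_left
      (show _ = (Ω ⊓ C.U j ⊓ C.U l) ⊓ C.U i by
        rw [basicOpen_resO, A.basicOpen_deh_X, ← inf_assoc, inf_eq_left.2 inf_le_left]) _ ?_
    rw [map_sub, rsM_smul, rsM_rsM, rsM_rsM,
      h0 j _ _ (le_inf (inf_le_left.trans (inf_le_left.trans inf_le_left)) inf_le_right),
      h0 l _ _ (le_inf (inf_le_left.trans (inf_le_left.trans inf_le_left)) inf_le_right), map_pow, resO_resO, sub_eq_zero,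
      smul_smul, ← mul_pow, A.resO_deh_X j l i _ (inf_le_left.trans (hle j l)), mul_comm]
  choose k hk using hD
  obtain ⟨K, hK⟩ : ∃ K, ∀ j l, k j l ≤ K := ⟨Finset.univ.sup fun q : Fin (n + 1) × Fin (n + 1) => k q.1 q.2,
    fun j l => Finset.le_sup (f := fun q : Fin (n + 1) × Fin (n + 1) => k q.1 q.2) (Finset.mem_univ (j, l))⟩
  refine ⟨M0 + K, fun j => (toΓ A M).symm (A.deh j (X i) ^ K • a0 j), fun j l W hj hl => ?_, ?_⟩
  · have h2 := congrArg (fun x => resO (inf_le_left : Ω ⊓ C.U j ⊓ C.U l ≤ Ω ⊓ C.U j) (A.deh j (X i)) ^ (K - k j l) • x) (hk j l)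
    simp only [smul_zero] at h2
    rw [smul_smul, ← pow_add, Nat.sub_add_cancel (hK j l)] at h2
    have h3 := congrArg (rsM M (le_inf hj (hl.trans inf_le_right) : W ≤ Ω ⊓ C.U j ⊓ C.U l)) h2
    rw [rsM_smul, map_sub, rsM_smul, rsM_rsM, rsM_rsM, map_zero, map_pow, map_pow, resO_resO, resO_resO, smul_sub, sub_eq_zero] at h3
    rw [AddEquiv.apply_symm_apply, AddEquiv.apply_symm_apply, rsM_smul, rsM_smul, map_pow, map_pow, C.u_natCast,
      h3, smul_smul, smul_smul, A.resO_deh_X j l i hj hl, A.deh_X j l, resO_resO]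
    congr 1
    ring
  · have h3 := h0 i (Ω ⊓ C.U i) le_rfl le_rfl
    rw [rsM_self, rsM_self, resO_self, A.deh_X_self, one_pow, one_smul] at h3
    rw [AddEquiv.apply_symm_apply, A.deh_X_self, one_pow, one_smul, h3]

/-- **Finitely many twisted sections generate on every chart.** -/
theorem exists_generators (hM : CohB1.IsFT M) :
    ∃ (r : ℕ) (e : Fin r → ℤ) (g : Fin r → Fam A M), (∀ k, g k ∈ (famGrading A M).piece (-e k)) ∧
      ∀ (i : Fin (n + 1)) (t : Γ(M, Ω ⊓ C.U i)), ∃ c : Fin r → Poly n R, ∑ k, A.deh i (c k) • toΓ A M (g k i) = t := by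
  classical
  have hfin : ∀ i : Fin (n + 1), ∃ (r : ℕ) (s : Fin r → Γ(M, Ω ⊓ C.U i)),
      Submodule.span Γ(Y, Ω ⊓ C.U i) (Set.range s) = ⊤ := fun i =>
    haveI := QCohLib.finite_of_isFT hM (A.isAffineOpen_chart i)
    Module.Finite.exists_fin
  choose r s hs using hfin
  choose d a ha hai using fun (q : Σ i, Fin (r i)) => exists_fam A M q.1 (s q.1 q.2)
  let E := Fintype.equivFin (Σ i, Fin (r i))
  refine ⟨_, fun k => -(d (E.symm k) : ℤ), fun k => a (E.symm k), fun k => by rw [neg_neg]; exact ha _, fun i t => ?_⟩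
  have ht : t ∈ Submodule.span Γ(Y, Ω ⊓ C.U i) (Set.range fun k => toΓ A M (a (E.symm k) i)) :=
    (Submodule.span_le.2 (by
      rintro _ ⟨l, rfl⟩
      refine Submodule.subset_span ⟨E ⟨i, l⟩, ?_⟩
      show toΓ A M (a (E.symm (E ⟨i, l⟩)) i) = _
      rw [E.symm_apply_apply]; exact hai ⟨i, l⟩)) ((hs i).ge Submodule.mem_top)
  obtain ⟨c, hc⟩ := (Submodule.mem_span_range_iff_exists_fun _).1 ht
  choose p hp using fun k => A.deh_surjective i (c k)
  exact ⟨p, by simp only [hp]; exact hc⟩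

/-- Fractions are determined by their values. -/
lemma glue_eq_zero (d : ℤ) (s : Finset (Fin (n + 1))) (z : locPiece (famGrading A M) d s) (h : glue A M d s z = 0) : z = 0 := by
  obtain ⟨_, m, y, hy, rfl⟩ := z
  have hy0 : ∀ i, ∃ k : ℕ, A.deh i (xs R s) ^ k • toΓ A M (y i) = 0 := fun i => by
    refine eq_zero_chart M (A.isAffineOpen_chart i) _ (part_le A s i) ((A.basicOpen_deh_xs i s).trans ?_) _ ?_
    · show Ω ⊓ C.U i ⊓ C.Uof s = C.U i ⊓ (Ω ⊓ C.Uof s)
      rw [inf_assoc, inf_left_comm]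
    · rw [← xs_pow_fracSec A M s y m i, ← twComp_glue A M d s ⟨frac s y m, m, y, hy, rfl⟩ i, h, map_zero, map_zero, smul_zero]
  choose k hk using hy0
  refine Subtype.ext ?_
  show frac (R := R) s y m = 0
  rw [show (0 : Loc R (Fam A M) s) = frac s 0 0 from (LocalizedModule.zero_mk _).symm, frac_eq_frac_iff]
  refine ⟨Finset.univ.sup k, funext fun i => (toΓ A M).injective ?_⟩
  obtain ⟨c, hc⟩ := Nat.exists_eq_add_of_le' (Finset.le_sup (f := k) (Finset.mem_univ i))
  rw [smul_zero, (Finset.univ.sup k).add_zero, Pi.smul_apply, toΓ_smul, resO_self, map_pow, Pi.zero_apply, map_zero,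
    hc, pow_add, mul_smul, hk i, smul_zero]

/-- **Twisted sections over intersections of charts are fractions.** -/
theorem genSys_bijective {r : ℕ} (e : Fin r → ℤ) (g : Fin r → Fam A M) (hg : ∀ k, g k ∈ (famGrading A M).piece (-e k))
    (hgen : ∀ (i : Fin (n + 1)) (t : Γ(M, Ω ⊓ C.U i)), ∃ c : Fin r → Poly n R, ∑ k, A.deh i (c k) • toΓ A M (g k i) = t)
    (d : ℤ) (s : Finset (Fin (n + 1))) (hs : s.Nonempty) : Function.Bijective ((genSys A M e g hg d).app s).hom := by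
  have hid : ∀ w : Loc R (Fam A M) s, locMap (R := R) (LinearMap.id : Fam A M →ₗ[Poly n R] Fam A M) s w = w := fun w => by
    induction w using LocalizedModule.induction_on with
    | h y x => obtain ⟨_, m, rfl⟩ := x; exact locMap_frac LinearMap.id s y m
  refine ⟨(injective_iff_map_eq_zero _).2 fun (z : locPiece (genGrading A M e g) d s) h => ?_, fun σ => ?_⟩
  · refine Subtype.ext ?_
    have h1 := congrArg Subtype.val (glue_eq_zero A M d s _ ((toS A (tw M C d)).symm.injective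
      ((show _ = _ from h).trans (map_zero _).symm)))
    have h2 : locMap (R := R) (LinearMap.id : Fam A M →ₗ[Poly n R] Fam A M) s (z : Loc R (Fam A M) s) = 0 := h1
    rwa [hid] at h2
  obtain ⟨i₀, hi₀⟩ := hs
  let τ := twSec M C d _ (toS A (tw M C d) (h := (inf_le_left : Ω ⊓ C.Uof s ≤ Ω)) σ)
  have hU : Ω ⊓ C.U i₀ ⊓ C.Uof s = part s i₀ A := by
    show _ = C.U i₀ ⊓ (Ω ⊓ C.Uof s)
    rw [inf_assoc, inf_left_comm]
  obtain ⟨k₀, t₀, ht₀⟩ := exists_extend_chart M (A.isAffineOpen_chart i₀) _ (part_le A s i₀)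
    ((A.basicOpen_deh_xs i₀ s).trans hU) (twComp i₀ τ)
  -- enlarge the exponent
  obtain ⟨k, t, ht, hk⟩ : ∃ (k : ℕ) (t : Γ(M, Ω ⊓ C.U i₀)),
      rsM M (part_le A s i₀) t = resO (part_le A s i₀) (A.deh i₀ (xs R s)) ^ k • twComp i₀ τ ∧ 0 ≤ d + (k : ℤ) * s.card := by
    refine ⟨k₀ + (-d).toNat, A.deh i₀ (xs R s) ^ (-d).toNat • t₀, ?_, ?_⟩
    · rw [rsM_smul, ht₀, map_pow, smul_smul, ← pow_add, Nat.add_comm (-d).toNat k₀]
    · have h1 : (1 : ℤ) ≤ s.card := by exact_mod_cast Finset.card_pos.2 ⟨i₀, hi₀⟩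
      have h2 : ((k₀ + (-d).toNat : ℕ) : ℤ) * 1 ≤ ((k₀ + (-d).toNat : ℕ) : ℤ) * s.card :=
        mul_le_mul_of_nonneg_left h1 (Int.natCast_nonneg _)
      omega
  obtain ⟨c, hc⟩ := hgen i₀ t
  choose B hB using fun l => exists_homogenization A i₀ (c l)
  obtain ⟨D, hDk, hDB⟩ : ∃ D : ℤ, d + (k : ℤ) * s.card ≤ D ∧ ∀ l, B l ≤ D + e l := by
    refine ⟨d + (k : ℤ) * s.card + ∑ l, |B l - e l|, ?_, fun l => ?_⟩
    · simp [Finset.sum_nonneg]
    · have h1 : |B l - e l| ≤ ∑ l, |B l - e l| :=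
        Finset.single_le_sum (f := fun l => |B l - e l|) (fun _ _ => abs_nonneg _) (Finset.mem_univ l)
      have h2 := le_abs_self (B l - e l)
      omega
  choose q hq hqc using fun l => hB l (D + e l) (hDB l)
  let y : Fam A M := genMap (R := R) (ι := Fin (n + 1)) g q
  have hy : y ∈ (genGrading A M e g).piece D := ⟨q, hq, rfl⟩
  have hyi : toΓ A M (y i₀) = t := by
    rw [← hc]
    show toΓ A M ((Fintype.linearCombination (Poly n R) g q) i₀) = _
    rw [Fintype.linearCombination_apply, Finset.sum_apply, map_sum]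
    refine Finset.sum_congr rfl fun l _ => ?_
    rw [Pi.smul_apply, toΓ_smul, resO_self, hqc]
  obtain ⟨b, hb⟩ : ∃ b : ℕ, D = d + (k : ℤ) * s.card + b := ⟨(D - (d + (k : ℤ) * s.card)).toNat, by omega⟩
  have hy' : xs R (s.erase i₀) ^ b • y ∈ (genGrading A M e g).piece (d + ((k + b : ℕ) : ℤ) * s.card) :=
    pow_xs_smul_mem (genGrading A M e g) _ b hy (by
      rw [← Finset.card_erase_add_one hi₀] at hb ⊢
      push_cast at hb ⊢
      rw [hb]; ring)
  let z : locPiece (genGrading A M e g) d s := ⟨frac s (xs R (s.erase i₀) ^ b • y) (k + b), k + b, _, hy', rfl⟩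
  refine ⟨z, ?_⟩
  let z' : locPiece (famGrading A M) d s :=
    ⟨frac s (xs R (s.erase i₀) ^ b • y) (k + b), k + b, _, genGrading_le A M e g hg _ _ hy', rfl⟩
  refine Eq.trans (congrArg (fun w => (toS A (tw M C d) (h := (inf_le_left : Ω ⊓ C.Uof s ≤ Ω))).symm (glue A M d s w)) (show _ = z' from Subtype.ext (hid _))) ?_
  apply ((toS A (tw M C d) (h := (inf_le_left : Ω ⊓ C.Uof s ≤ Ω))).trans (twSec M C d _)).injective
  rw [AddEquiv.trans_apply, AddEquiv.apply_symm_apply]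
  show _ = τ
  -- the component at `i₀`
  have h5 := xs_pow_fracSec A M s (xs R (s.erase i₀) ^ b • y) (k + b) i₀
  rw [← twComp_glue A M d s z' i₀, Pi.smul_apply, toΓ_smul, resO_self, rsM_smul, hyi, ht, smul_smul] at h5
  have hxe : A.deh i₀ (xs R (s.erase i₀)) = A.deh i₀ (xs R s) := by
    rw [xs, xs, ← Finset.mul_prod_erase s _ hi₀, map_mul, A.deh_X_self, one_mul]
  rw [map_pow, map_pow, map_pow, map_pow, hxe, ← pow_add, add_comm b k] at h5
  have h6 := (((A.isUnit_deh_xs i₀ (part_le A s i₀) (part_le_Uof A s i₀)).pow (k + b)).smul_left_cancel).1 h5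
  refine congrArg _ ((twEval_bijective M C d i₀ (inf_le_right.trans (C.Uof_le hi₀))).1 ?_)
  show rsM M _ (twComp i₀ (twSec M C d _ (glue A M d s z'))) = rsM M _ (twComp i₀ τ)
  rw [h6]

end AtlasCoh
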