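import Groth.Agent.AtlasCohLib.FiniteCoh
import Groth.Agent.DevissLib.ClosedImm
import Mathlib.AlgebraicGeometry.Morphisms.Proper

/-!
# Direct images of twists along a proper morphism with an atlas

For `π : X' ⟶ Z` with coordinates on `X'` which embed `X'` into projective space over the base and over every affine
open of `Z`, high twists push forward to coherent modules with finite cohomology.
-/

universe u

open CategoryTheory CategoryTheory.Limits AlgebraicGeometry Opposite TopologicalSpace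
open QCohLib (AbSh HU toAbF)

namespace AtlasCoh

variable {X' Z : Scheme.{u}} (π : X' ⟶ Z) {n : ℕ} (C : Coords n X')

/-- The coordinates form an atlas over every affine open of the target. -/
def RelAtlas : Prop :=
  ∀ W : Z.Opens, IsAffineOpen W → ∃ a : Atlas C (π ⁻¹ᵁ W) Γ(Z, W), a.cst = (π.app W).hom

variable {π C}

lemma isCoh_push_tw [QuasiCompact π] [QuasiSeparated π] [IsLocallyNoetherian Z] (hC : ⨆ i, C.U i = ⊤)
    (hW : RelAtlas π C) (M : X'.Modules) (hM : Coh.IsCoh M) (d : ℤ) :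
    Coh.IsCoh ((Coh.push π).obj (tw M C d)) := by
  have : Coh.IsQCoh M := hM.1
  have := isQCoh_tw M C d hC
  have hq : Coh.IsQCoh ((Coh.push π).obj (tw M C d)) := QCohLib.isQCoh_pushforward π _
  refine ⟨hq, QCohLib.isFT_of_finite fun p => ?_⟩
  obtain ⟨W, hWa, hp⟩ := QCohLib.exists_affine_nhd p
  refine ⟨W, hWa, hp, ?_⟩
  obtain ⟨a, ha⟩ := hW W hWa
  have : IsNoetherianRing Γ(Z, W) := IsLocallyNoetherian.component_noetherian ⟨W, hWa⟩
  have := finite_secR a M hM.2 d
  refine finite_of_addEquiv (B := Γ(Z, W)) (P := SecR a (tw M C d) (π ⁻¹ᵁ W) le_rfl) (toS a (tw M C d)) fun r x => ?_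
  refine (toS_smul a _ r x).trans (Eq.trans ?_ (QCohLib.push_smul π (tw M C d) r (toS a (tw M C d) x)).symm)
  rw [Atlas.cstOn, ha]
  exact congrArg (· • toS a (tw M C d) x) (resO_self _ _)

/-- High twists are acyclic on the preimages of a finite affine family. -/
lemma exists_acyc_tw [IsLocallyNoetherian Z] [Z.IsSeparated] (hC : ⨆ i, C.U i = ⊤) (hW : RelAtlas π C)
    (M : X'.Modules) (hM : Coh.IsCoh M) {ι : Type u} [Finite ι] (V : ι → Z.Opens) (hV : ∀ i, IsAffineOpen (V i)) :
    ∃ d₀ : ℤ, ∀ d, d₀ ≤ d → CechLib.Acyc (preFam π V) ((toAbF X').obj (tw M C d)) := by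
  classical
  have : Coh.IsQCoh M := hM.1
  choose a ha using fun s : {s : Finset ι // s.Nonempty} =>
    hW (⨅ i : s.1, V i) (have : Nonempty s.1 := s.2.to_subtype; IsAffineOpen.iInf fun i => hV i)
  choose d hd using fun s : {s : Finset ι // s.Nonempty} =>
    have : IsNoetherianRing Γ(Z, ⨅ i : s.1, V i) := IsLocallyNoetherian.component_noetherian
      ⟨⨅ i : s.1, V i, have : Nonempty s.1 := s.2.to_subtype; IsAffineOpen.iInf fun i : s.1 => hV i⟩
    exists_subsingleton_HU_tw (a s) M hC hM.2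
  have : Fintype {s : Finset ι // s.Nonempty} := Fintype.ofFinite _
  refine ⟨∑ s, |d s|, fun e he m J q => ?_⟩
  let s : {s : Finset ι // s.Nonempty} := ⟨Finset.univ.image J, Finset.univ_nonempty.image J⟩
  have hcap : CechLib.cap (preFam π V) J = π ⁻¹ᵁ ⨅ i : s.1, V i := by
    rw [cap_preFam]
    refine congrArg (π ⁻¹ᵁ ·) (le_antisymm (le_iInf fun i => ?_) (le_iInf fun b => ?_))
    · obtain ⟨b, -, hb⟩ := Finset.mem_image.1 i.2
      exact (iInf_le _ b).trans (le_of_eq (congrArg V hb))
    · exact iInf_le_of_le (⟨J b, Finset.mem_image_of_mem J (Finset.mem_univ b)⟩ : s.1) le_rfl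
  rw [hcap]
  refine hd s e ?_ q
  have h1 : |d s| ≤ ∑ t, |d t| := Finset.single_le_sum (f := fun t => |d t|) (fun _ _ => abs_nonneg _) (Finset.mem_univ _)
  have h2 := le_abs_self (d s)
  omega

variable {A : Type u} [CommRing A] [IsNoetherianRing A] {g : Z ⟶ Spec (CommRingCat.of A)}

/-- **High twists push forward to coherent modules with finite cohomology.** -/
theorem exists_finiteCoh_push_tw [IsProper π] [IsLocallyNoetherian Z] [CompactSpace Z] [Z.IsSeparated]
    (a : Atlas C ⊤ A) (ha : a.cst = Coh.toGlobal (π ≫ g)) (hW : RelAtlas π C) (M : X'.Modules) (hM : Coh.IsCoh M) :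
    ∃ d₀ : ℤ, ∀ d, d₀ ≤ d →
      Coh.IsCoh ((Coh.push π).obj (tw M C d)) ∧ FiniteCoh g ((Coh.push π).obj (tw M C d)) := by
  have hC : ⨆ i, C.U i = ⊤ := top_le_iff.1 a.le_iSup
  have : Coh.IsQCoh M := hM.1
  let ι : Type u := Z.affineCover.finiteSubcover.I₀
  let V : ι → Z.Opens := fun i => (Z.affineCover.finiteSubcover.f i).opensRange
  have hV : ∀ i, IsAffineOpen (V i) := fun i =>
    have : IsAffine (Z.affineCover.finiteSubcover.X i) := inferInstanceAs (IsAffine (Z.affineCover.X _))
    isAffineOpen_opensRange _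
  obtain ⟨d₀, hd₀⟩ := exists_acyc_tw hC hW M hM V hV
  refine ⟨d₀, fun d hd => ?_⟩
  have hG := isCoh_push_tw hC hW M hM d
  have : Coh.IsQCoh ((Coh.push π).obj (tw M C d)) := hG.1
  refine ⟨hG, FiniteCoh.push V Z.affineCover.finiteSubcover.iSup_opensRange _ (hd₀ d hd) (fun m J q => ?_)
    (finiteCoh_tw a ha M hM.2 d)⟩
  exact QCohLib.subsingleton_HU_affine _ q (isAffineOpen_cap _ hV J)

omit [IsNoetherianRing A] in
/-- Where `π` is an isomorphism and the coordinate `k` is invertible, a pushed twist of `O` is free of rank one. -/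
lemma exists_gen_push_tw (d : ℤ) (k : Fin (n + 1)) {W : Z.Opens} (hk : π ⁻¹ᵁ W ≤ C.U k)
    (hπ : Function.Bijective (π.app W).hom) :
    ∃ s : Γ((Coh.push π).obj (tw (Coh.structureModule X') C d), W), Function.Bijective fun r : Γ(Z, W) => r • s := by
  obtain ⟨s₀, hs⟩ := (twEval_bijective (Coh.structureModule X') C d k hk).2 (1 : Γ(X', π ⁻¹ᵁ W))
  let s : Γ((Coh.push π).obj (tw (Coh.structureModule X') C d), W) := s₀
  refine ⟨s, ?_⟩
  have key : ∀ r : Γ(Z, W), twEval (Coh.structureModule X') C d k hk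
      (r • s : Γ((Coh.push π).obj (tw (Coh.structureModule X') C d), W)) = (π.app W).hom r := fun r => by
    refine (congrArg _ (QCohLib.push_smul π _ r s)).trans ((twEval_smul _ _ _ k hk _ s₀).trans ?_)
    rw [hs]
    exact mul_one ((π.app W).hom r)
  have hbij := twEval_bijective (Coh.structureModule X') C d k hk
  exact ⟨fun r r' h => hπ.1 ((key r).symm.trans ((congrArg _ h).trans (key r'))),
    fun t => let ⟨r, hr⟩ := hπ.2 (twEval _ C d k hk t); ⟨r, hbij.1 ((key r).trans hr)⟩⟩

end AtlasCoh
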